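import Cfsg.Prelude.Def_Transfer
import Cfsg.Agent.Lib.Transfer.Basic
import Mathlib

/-!
# Cyclic Sylow `p`-subgroups: the subgroup of order `p`
-/

set_option autoImplicit false

namespace CfsgLib.CyclicPairs

open Cfsg

universe u

variable {G : Type u} [Group G] [Finite G] {p : ℕ} [Fact p.Prime]

theorem mem_zpowers_of_orderOf (P : Sylow p G) (hcyc : IsCyclic ↥(P : Subgroup G)) {x z : G}
    (hxP : x ∈ (P : Subgroup G)) (hx : orderOf x = p) (hzP : z ∈ (P : Subgroup G))
    (hz : z ^ p = 1) : z ∈ Subgroup.zpowers x := by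
  classical
  haveI := hcyc
  haveI := Fintype.ofFinite (P : Subgroup G)
  have hp : p.Prime := Fact.out
  set x' : (P : Subgroup G) := ⟨x, hxP⟩
  set z' : (P : Subgroup G) := ⟨z, hzP⟩
  haveI := Fintype.ofFinite (Subgroup.zpowers x')
  set S := Finset.univ.filter fun a : (P : Subgroup G) => a ^ p = 1
  have hS : S.card ≤ p := IsCyclic.card_pow_eq_one_le hp.pos
  set Z := Finset.univ.filter fun a : (P : Subgroup G) => a ∈ Subgroup.zpowers x'
  have hx' : orderOf x' = p := (Subgroup.orderOf_mk x hxP).trans hx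
  have hZS : Z ⊆ S := by
    intro a ha
    obtain ⟨i, rfl⟩ := Subgroup.mem_zpowers_iff.mp (Finset.mem_filter.mp ha).2
    refine Finset.mem_filter.mpr ⟨Finset.mem_univ _, ?_⟩
    have hxp : x' ^ p = 1 := orderOf_dvd_iff_pow_eq_one.mp hx'.dvd
    rw [← zpow_natCast, ← zpow_mul, mul_comm, zpow_mul, zpow_natCast, hxp, one_zpow]
  have hZ : Z.card = p := by
    refine Eq.trans ?_ ((Nat.card_zpowers x').trans hx')
    rw [Nat.card_eq_fintype_card, Fintype.card_subtype]
  have heq : Z = S := Finset.eq_of_subset_of_card_le hZS (hS.trans hZ.ge)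
  have hz' : z' ∈ Z := heq ▸ Finset.mem_filter.mpr ⟨Finset.mem_univ _, Subtype.ext (by
    rw [SubmonoidClass.coe_pow, OneMemClass.coe_one]; exact hz)⟩
  obtain ⟨i, hi⟩ := Subgroup.mem_zpowers_iff.mp (Finset.mem_filter.mp hz').2
  exact Subgroup.mem_zpowers_iff.mpr ⟨i, by
    have := congrArg Subtype.val hi
    simpa using this⟩

/-- An element normalizing a cyclic Sylow subgroup and fixing its subgroup of order `p` centralizes
it. -/
theorem normalizer_le_centralizer (P : Sylow p G) (hcyc : IsCyclic ↥(P : Subgroup G)) {x : G}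
    (hxP : x ∈ (P : Subgroup G)) (hx : orderOf x = p)
    (hfix : ∀ n ∈ Subgroup.normalizer ((P : Subgroup G) : Set G), n * x * n⁻¹ = x) :
    Subgroup.normalizer ((P : Subgroup G) : Set G) ≤
      Subgroup.centralizer ((P : Subgroup G) : Set G) := by
  classical
  have hp : p.Prime := Fact.out
  intro n hn
  obtain ⟨u, hu⟩ := hcyc.exists_generator
  obtain ⟨a, ha⟩ := IsPGroup.iff_card.mp P.2
  have huord : orderOf (u : G) = p ^ a := by
    rw [Subgroup.orderOf_coe, orderOf_eq_card_of_forall_mem_zpowers hu, ha]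
  have hgen : ∀ y ∈ (P : Subgroup G), ∃ i : ℕ, y = (u : G) ^ i := by
    intro y hy
    obtain ⟨i, -, hi⟩ := (mem_powers_iff_mem_zpowers (x := u)).mpr (hu ⟨y, hy⟩) |>
      fun h => (⟨h.choose, trivial, h.choose_spec⟩ : ∃ i : ℕ, True ∧ u ^ i = ⟨y, hy⟩)
    exact ⟨i, by simpa using (congrArg Subtype.val hi).symm⟩
  obtain ⟨j, hj⟩ := hgen (n * u * n⁻¹) ((Subgroup.mem_normalizer_iff.mp hn _).mp u.2)
  -- the exponent is one modulo `p`
  obtain ⟨i, hi⟩ := hgen x hxP
  have hjp : (p : ℤ) ∣ (j : ℤ) - 1 := by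
    have h1 : x ^ j = x := by
      conv_rhs => rw [← hfix n hn, hi, ← conj_pow, hj, ← pow_mul, mul_comm, pow_mul, ← hi]
    have h2 : x ^ (j : ℤ) = x ^ (1 : ℤ) := by rw [zpow_natCast, zpow_one, h1]
    have h3 := orderOf_dvd_sub_iff_zpow_eq_zpow.mpr h2
    rwa [hx] at h3
  have hconj : ∀ s : ℕ, n ^ s * u * (n ^ s)⁻¹ = (u : G) ^ (j ^ s) := by
    intro s
    induction s with
    | zero => simp
    | succ s ih =>
      rw [pow_succ', show n * n ^ s * (u : G) * (n * n ^ s)⁻¹ = n * (n ^ s * u * (n ^ s)⁻¹) * n⁻¹ by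
        group, ih, ← conj_pow, hj, ← pow_mul]
      ring_nf
  have hfixu : n ^ p ^ a * u * (n ^ p ^ a)⁻¹ = (u : G) := by
    rw [hconj]
    have h4 : ((p : ℤ) ^ (a + 1)) ∣ (j : ℤ) ^ p ^ a - 1 ^ p ^ a := dvd_sub_pow_of_dvd_sub hjp a
    rw [one_pow] at h4
    have h5 : ((orderOf (u : G) : ℤ)) ∣ ((j ^ p ^ a : ℕ) : ℤ) - (1 : ℤ) := by
      rw [huord]
      push_cast
      exact (pow_dvd_pow _ (Nat.le_succ a)).trans h4
    have h6 := orderOf_dvd_sub_iff_zpow_eq_zpow.mp h5
    rwa [zpow_natCast, zpow_one] at h6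
  have hcentP : n ^ p ^ a ∈ Subgroup.centralizer ((P : Subgroup G) : Set G) := by
    rw [Subgroup.mem_centralizer_iff]
    intro y hy
    obtain ⟨s, rfl⟩ := hgen y hy
    have hc : Commute (n ^ p ^ a) (u : G) := mul_inv_eq_iff_eq_mul.mp hfixu
    exact (hc.pow_right s).eq.symm
  -- the `p`-part lies in `P`
  set r := Nat.card G / p ^ (Nat.card G).factorization p with hr
  have hnr : n ^ r ∈ (P : Subgroup G) := by
    have hpg : IsPGroup p (Subgroup.zpowers (n ^ r)) := by
      have hd : orderOf (n ^ r) ∣ p ^ (Nat.card G).factorization p := by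
        refine orderOf_dvd_of_pow_eq_one ?_
        rw [← pow_mul, hr, Nat.div_mul_cancel (Nat.ordProj_dvd _ _)]
        exact pow_card_eq_one'
      obtain ⟨i, -, hi⟩ := (Nat.dvd_prime_pow hp).mp hd
      exact IsPGroup.of_card (by rw [Nat.card_zpowers, hi])
    have hle : Subgroup.zpowers (n ^ r) ≤ Subgroup.normalizer ((P : Subgroup G) : Set G) :=
      Subgroup.zpowers_le.mpr (pow_mem hn r)
    have h := P.3 (IsPGroup.to_sup_of_normal_right' hpg P.2 hle) le_sup_right
    exact h ▸ Subgroup.mem_sup_left (Subgroup.mem_zpowers _)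
  have hnrc : n ^ r ∈ Subgroup.centralizer ((P : Subgroup G) : Set G) := by
    rw [Subgroup.mem_centralizer_iff]
    intro y hy
    haveI := hcyc
    haveI : IsMulCommutative (P : Subgroup G) := inferInstance
    exact congrArg Subtype.val (mul_comm' (⟨y, hy⟩ : (P : Subgroup G)) ⟨_, hnr⟩)
  have hcop : Nat.Coprime (p ^ a) r := Nat.Coprime.pow_left a
    (Nat.coprime_ordCompl hp Nat.card_pos.ne')
  have hg := Nat.gcd_eq_gcd_ab (p ^ a) r
  rw [hcop.gcd_eq_one] at hg
  have e : n = (n ^ p ^ a) ^ (Nat.gcdA (p ^ a) r) * (n ^ r) ^ (Nat.gcdB (p ^ a) r) := by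
    rw [← zpow_natCast n (p ^ a), ← zpow_natCast n r, ← zpow_mul, ← zpow_mul, ← zpow_add, ← hg]
    simp
  rw [e]
  exact mul_mem (zpow_mem hcentP _) (zpow_mem hnrc _)

/-- With a central element of order `p` in a cyclic Sylow subgroup there is a normal complement. -/
theorem hasNormalPComplement_of_central (P : Sylow p G) (hcyc : IsCyclic ↥(P : Subgroup G)) {x : G}
    (hxP : x ∈ (P : Subgroup G)) (hx : orderOf x = p)
    (hfix : ∀ n ∈ Subgroup.normalizer ((P : Subgroup G) : Set G), n * x * n⁻¹ = x) :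
    HasNormalPComplement p G :=
  ⟨P, _, MonoidHom.normal_ker _, MonoidHom.ker_transferSylow_isComplement' P
    (normalizer_le_centralizer P hcyc hxP hx hfix)⟩

/-- Cyclic Sylow subgroups are inherited by subgroups. -/
theorem isCyclic_sylow_subgroup (hcyc : ∀ T : Sylow p G, IsCyclic ↥(T : Subgroup G))
    (K : Subgroup G) (S : Sylow p K) : IsCyclic ↥(S : Subgroup K) := by
  obtain ⟨T, hT⟩ := (S.2.map K.subtype).exists_le_sylow
  haveI := hcyc T
  haveI : IsCyclic ↥((S : Subgroup K).map K.subtype) :=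
    isCyclic_of_injective (Subgroup.inclusion hT) (Subgroup.inclusion_injective hT)
  exact isCyclic_of_injective ((S : Subgroup K).equivMapOfInjective K.subtype
    K.subtype_injective).toMonoidHom (MulEquiv.injective _)

end CfsgLib.CyclicPairs
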