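import Cfsg.Agent.Lib.CyclicPairs.Cubic
import Cfsg.Agent.Lib.CyclicPairs.Local
import Cfsg.Agent.Lib.PairPSolvable.Core
import Cfsg.Agent.Lib.Char.OddIndexFixed
import Cfsg.Agent.Lib.Char.Artin
import Cfsg.Agent.Lib.Char.Table
import Cfsg.Agent.Lib.Blocks.SectionContribution

/-!
# Cyclic Sylow `p`-subgroups: no faithful configuration with `p`-solvable pairs

The identity `∑ v³/χ(1) = (p - 2) ∑ v²` gives a character with `v` large against the degree; its
Galois conjugates lie in the principal block and cover all faithful characters of `P`, which makes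
`∑ v²` too large.
-/

set_option autoImplicit false

namespace CfsgLib.CyclicPairs

open Cfsg CfsgLib.Char CfsgLib.Char.OddFixed
open scoped ComplexConjugate CfsgLib.Char

universe u

variable {G : Type u} [Group G] [Fintype G] {p : ℕ} [Fact p.Prime]

/-- Irreducible characters that agree on the regular elements lie in the same block. -/
theorem mem_block_of_regular {M : Ideal AlgInt} (hM : IsPModular p M) {B : Set (IrrCharacter G)}
    (hB : IsPBlock M B) {χ ψ : IrrCharacter G} (hχ : χ ∈ B)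
    (h : ∀ g, IsPRegular p g → (ψ : G → ℂ) g = (χ : G → ℂ) g) : ψ ∈ B := by
  classical
  have hp : p.Prime := hM.1
  by_contra hψ
  have h0 := Blocks.sum_regular_irr_mul_conj hM hB hχ hψ
  rw [Finset.sum_congr rfl (g := fun s => (((Complex.normSq ((χ : G → ℂ) s)) : ℝ) : ℂ))
    fun s hs => by rw [h s (Finset.mem_filter.mp hs).2, Complex.mul_conj]] at h0
  rw [← Complex.ofReal_sum, Complex.ofReal_eq_zero] at h0
  have h1 := (Finset.sum_eq_zero_iff_of_nonneg fun s _ => Complex.normSq_nonneg _).mp h0 1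
    (Finset.mem_filter.mpr ⟨Finset.mem_univ _, by
      rw [IsPRegular, orderOf_one, Nat.dvd_one]; exact hp.ne_one⟩)
  exact irr_degree_ne_zero χ.2 (Complex.normSq_eq_zero.mp h1)

/-- The numerical contradiction. -/
theorem arith_contra {p q Q e k D d : ℕ} {N : ℕ} {U : ℝ} (hp : 3 ≤ p) (hp4 : p ≠ 4) (hQ : 1 ≤ Q)
    (hq : q = p * Q) (he2 : 2 ≤ e) (he : e ≤ p - 1) (heD : e ≤ D) (hd : d = k + D)
    (hU : U = ((p : ℝ) - 1) * e * q)
    (hbig : ((p : ℝ) - 2) * U - ((p : ℝ) - 1) ^ 3 <
      (U - ((p : ℝ) - 1) ^ 2) * (((p : ℝ) * k - d) / d))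
    (hN : ((p : ℝ) - 1) * Q ≤ N * D)
    (hsum : (N : ℝ) * ((p : ℝ) * k - d) ^ 2 ≤ U - ((p : ℝ) - 1) ^ 2) : False := by
  have hpR : (3 : ℝ) ≤ p := by exact_mod_cast hp
  have hQR : (1 : ℝ) ≤ Q := by exact_mod_cast hQ
  have heR : (2 : ℝ) ≤ e := by exact_mod_cast he2
  have heDR : (e : ℝ) ≤ D := by exact_mod_cast heD
  have hqR : (q : ℝ) = p * Q := by exact_mod_cast hq
  have hdR : (d : ℝ) = k + D := by exact_mod_cast hd
  set U' := U - ((p : ℝ) - 1) ^ 2 with hU'
  set v := (p : ℝ) * k - d with hv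
  have hlo : ((p : ℝ) - 1) * ((p : ℝ) + 1) ≤ U' := by
    have h1 : (2 : ℝ) * p ≤ e * q := by
      rw [hqR]
      calc (2 : ℝ) * p ≤ e * (p * 1) := by nlinarith
        _ ≤ e * (p * Q) := by gcongr
    rw [hU', hU]
    nlinarith
  have hU0 : 0 < U' := lt_of_lt_of_le (by nlinarith) hlo
  -- the ratio
  have hd0 : (0 : ℝ) < d := by rw [hdR]; linarith [Nat.cast_nonneg (α := ℝ) k]
  have hratio : ((p : ℝ) - 2) - ((p : ℝ) - 1) / ((p : ℝ) + 1) < v / d := by
    have h1 : ((p : ℝ) - 2) * U' - ((p : ℝ) - 1) ^ 2 < U' * (v / d) := by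
      refine lt_of_eq_of_lt ?_ hbig
      rw [hU']; ring
    have h2 : ((p : ℝ) - 1) ^ 2 ≤ U' * (((p : ℝ) - 1) / ((p : ℝ) + 1)) := by
      rw [mul_div_assoc', le_div_iff₀ (by linarith)]
      nlinarith
    by_contra hle
    push Not at hle
    have := mul_le_mul_of_nonneg_left hle hU0.le
    linarith
  -- the Galois count
  have hbound : v ^ 2 < e * p * D := by
    have h1 : v ^ 2 * (((p : ℝ) - 1) * Q) ≤ U' * D := by
      calc v ^ 2 * (((p : ℝ) - 1) * Q) ≤ v ^ 2 * (N * D) := by gcongr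
        _ = (N * v ^ 2) * D := by ring
        _ ≤ U' * D := by gcongr
    have h2 : U' * D < ((p : ℝ) - 1) * e * (p * Q) * D := by
      refine mul_lt_mul_of_pos_right ?_ (by linarith)
      rw [hU', hU, hqR]
      nlinarith
    have h3 : (v ^ 2) * (((p : ℝ) - 1) * Q) < (e * p * D) * (((p : ℝ) - 1) * Q) :=
      lt_of_le_of_lt h1 (h2.trans_eq (by ring))
    exact lt_of_mul_lt_mul_right h3 (mul_nonneg (by linarith) (by linarith))
  by_cases hp3 : p = 3
  · subst hp3
    have he' : e = 2 := by omega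
    subst he'
    push_cast at hratio hbound hv
    norm_num at hratio
    rw [lt_div_iff₀ hd0, hv, hdR] at hratio
    have hkD : D < k := by exact_mod_cast (show (D : ℝ) < k by linarith)
    have hkD' : (D : ℝ) + 1 ≤ k := by exact_mod_cast hkD
    have hvD : (D : ℝ) + 2 ≤ v := by rw [hv, hdR]; linarith
    nlinarith [sq_nonneg ((D : ℝ) - 1), mul_le_mul hvD hvD (by linarith) (by linarith)]
  · have hp5 : (5 : ℝ) ≤ p := by
      have : 5 ≤ p := by omega
      exact_mod_cast this
    set r := ((p : ℝ) - 2) - ((p : ℝ) - 1) / ((p : ℝ) + 1) with hr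
    have hr0 : (p : ℝ) - 3 < r := by
      rw [hr]
      have : ((p : ℝ) - 1) / ((p : ℝ) + 1) < 1 := by rw [div_lt_one (by linarith)]; linarith
      linarith
    have hr2 : (p : ℝ) ≤ r ^ 2 := by
      by_cases hp6 : (6 : ℝ) ≤ p
      · nlinarith
      · have hp' : p = 5 := by
          have h1 : (p : ℝ) < 6 := lt_of_not_ge hp6
          have h2 : p < 6 := by exact_mod_cast h1
          have h3 : 5 ≤ p := by exact_mod_cast hp5
          omega
        subst hp'
        rw [hr]; norm_num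
    rw [lt_div_iff₀ hd0] at hratio
    have hDd : (D : ℝ) ≤ d := by rw [hdR]; linarith [Nat.cast_nonneg (α := ℝ) k]
    have h1 : (r * d) ^ 2 ≤ v ^ 2 :=
      pow_le_pow_left₀ (mul_nonneg (by linarith) hd0.le) hratio.le 2
    have h2 : (e : ℝ) * p * D ≤ p * (d : ℝ) ^ 2 := by
      have : (e : ℝ) * D ≤ (d : ℝ) * d := mul_le_mul (by linarith) hDd (by linarith) hd0.le
      nlinarith
    have h3 : (p : ℝ) * (d : ℝ) ^ 2 ≤ r ^ 2 * (d : ℝ) ^ 2 :=
      mul_le_mul_of_nonneg_right hr2 (sq_nonneg _)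
    nlinarith

set_option maxHeartbeats 1000000 in
open Classical in
/-- The configuration is impossible. -/
theorem no_configuration (P : Sylow p G) (hcyc : IsCyclic ↥(P : Subgroup G)) (hp2 : p ≠ 2) {x : G}
    (hxP : x ∈ (P : Subgroup G)) (hx : orderOf x = p)
    (hfaith : ∀ χ : IrrCharacter G, ((χ : G → ℂ) ≠ fun _ => 1) → (χ : G → ℂ) x ≠ (χ : G → ℂ) 1)
    (hfus : ∃ n : G, n * x * n⁻¹ ∈ Subgroup.zpowers x ∧ n * x * n⁻¹ ≠ x)
    (hnpc : ∀ a ∈ Subgroup.zpowers x, a ≠ 1 →
      HasNormalPComplement p ↥(Subgroup.centralizer ({a} : Set G)))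
    (hpairs : ∀ g : G, ∃ (j : ℕ) (R : Subgroup G), ¬ p ∣ Nat.card R ∧
      x ∈ Subgroup.normalizer (R : Set G) ∧
      ∀ y ∈ Subgroup.zpowers x, g * y * g⁻¹ * (y ^ j)⁻¹ ∈ R) : False := by
  have hp : p.Prime := Fact.out
  obtain ⟨M, hM⟩ := Blocks.exists_isPModular hp
  haveI := Blocks.isPrime_of_isPModular hM
  haveI := finite_irrCharacter (G := G)
  set H := Subgroup.zpowers x with hH
  haveI := Fintype.ofFinite H
  haveI := Fintype.ofFinite (P : Subgroup G)
  have hqH : Nat.card H = p := by rw [hH, Nat.card_zpowers, hx]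
  have hHP : H ≤ (P : Subgroup G) := Subgroup.zpowers_le.mpr hxP
  have hHp : IsPGroup p H := P.2.to_le hHP
  have hPcomm : ∀ a ∈ (P : Subgroup G), ∀ b ∈ (P : Subgroup G), a * b = b * a := by
    intro a ha b hb
    haveI := hcyc
    haveI : IsMulCommutative (P : Subgroup G) := inferInstance
    exact congrArg Subtype.val (mul_comm' (⟨a, ha⟩ : (P : Subgroup G)) ⟨b, hb⟩)
  have hPC : ∀ a ∈ H, (P : Subgroup G) ≤ Subgroup.centralizer ({a} : Set G) := fun a ha y hy =>
    Subgroup.mem_centralizer_singleton_iff.mpr (hPcomm y hy a (hHP ha))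
  set q := Nat.card (P : Subgroup G) with hq
  choose j R hRp hxR hmem using hpairs
  -- the identity
  set B : Finset (IrrCharacter G) :=
    Finset.univ.filter (fun χ : IrrCharacter G => χ ∈ principalBlock M G) with hB
  choose d hd0 hd using fun χ : IrrCharacter G => exists_nat_degree_irr χ.2
  choose nH hnH using fun (χ : IrrCharacter G) (μ : IrrCharacter H) => exists_nat_classInner
    (isCharacter_restrict H (isCharacter_of_isIrr χ.2)) (isCharacter_of_isIrr μ.2)
  set one : IrrCharacter H := ⟨fun _ => 1, isIrrCharacter_one⟩ with hone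
  set k : IrrCharacter G → ℕ := fun χ => nH χ one with hkdef
  have hk : ∀ χ : IrrCharacter G, ∑ a : H, (χ : G → ℂ) a = (Nat.card H : ℂ) * k χ := fun χ => by
    rw [hkdef, ← hnH χ one]
    simp only [classInner, hone, map_one, mul_one]
    rw [mul_inv_cancel_left₀ (Nat.cast_ne_zero.mpr Nat.card_pos.ne')]
  have hval : ∀ χ ∈ principalBlock M G, ∀ (g : G) (_ : H), ∀ t ∈ R g, ∀ e ∈ H, e ≠ 1 →
      t * e = e * t → (χ : G → ℂ) (t * e) = (χ : G → ℂ) e := by
    intro χ hχ g _ t ht e he he1 hte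
    haveI := Fintype.ofFinite (Subgroup.centralizer ({e} : Set G))
    obtain ⟨N, hNle, hNreg, -⟩ := PairPSolvable.regular_centralizer P
      (Subgroup.card_dvd_of_le (hPC e he)) (hnpc e he he1)
    have htC : t ∈ Subgroup.centralizer ({e} : Set G) :=
      Subgroup.mem_centralizer_singleton_iff.mpr hte
    have htr : ¬ p ∣ orderOf t := ExtClosedP.not_dvd_orderOf (hRp g) ht
    obtain ⟨i, hi⟩ := IsPGroup.iff_orderOf.mp hHp ⟨e, he⟩
    have hcl := Blocks.value_mul_pPrimeCore hM (x := e)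
      ⟨i, (Subgroup.orderOf_coe (⟨e, he⟩ : H)).trans hi⟩ hχ (y := 1) (v := ⟨t, htC⟩)
      (by rw [orderOf_one, Nat.dvd_one]; exact hp.ne_one)
      (by rw [one_mul, Subgroup.orderOf_mk]; exact htr) (hNle ((hNreg ⟨t, htC⟩).mp htr))
    rw [one_mul, OneMemClass.coe_one, mul_one] at hcl
    rw [hte]
    exact hcl
  obtain ⟨hcube, hdv⟩ := cube_identity hM hHp (fun g y => y ^ j g) (fun g _ => R g)
    (fun g _ => hRp g) (fun g _ => Subgroup.zpowers_le.mpr (hxR g))
    (fun g y => by
      have := hmem g (y : G) y.2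
      simpa using this)
    hval d hd0 hd k hk
  set v : IrrCharacter G → ℝ := fun χ => (Nat.card H : ℝ) * k χ - d χ with hvdef
  have hvs : ∀ χ : IrrCharacter G,
      ∑ a ∈ (Finset.univ : Finset H).erase 1, (χ : G → ℂ) a = (v χ : ℂ) := fun χ => by
    rw [Finset.sum_erase_eq_sub (Finset.mem_univ _), hk, OneMemClass.coe_one, hd, hvdef]
    push_cast; rfl
  have hcol : ∀ a ∈ H, a ≠ 1 → ∑ᶠ ψ ∈ principalBlock M ↥(Subgroup.centralizer ({a} : Set G)),
      charDegree (ψ : Subgroup.centralizer ({a} : Set G) → ℂ) ^ 2 = q := by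
    intro a ha ha1
    haveI := Fintype.ofFinite (Subgroup.centralizer ({a} : Set G))
    rw [Blocks.sum_sq_degree_principal_of_npc hM (hnpc a ha ha1) (P.subtype (hPC a ha))]
    exact Nat.card_congr (Subgroup.subgroupOfEquivOfLe (hPC a ha)).toEquiv
  have hUsum := sum_sq_eq hM hHp q hcol v hvs
  -- the orbit
  set Hs : Finset H := (Finset.univ : Finset H).erase 1 with hHs
  set x' : H := ⟨x, Subgroup.mem_zpowers x⟩ with hx'
  have hx1 : x' ≠ 1 := fun h1 => by
    have : x = 1 := congrArg Subtype.val h1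
    rw [this, orderOf_one] at hx
    exact hp.one_lt.ne hx
  set e := (Hs.filter fun b : H => IsConj x (b : G)).card with he
  have hpow : ∀ (b : H), ∃ i : ℕ, b = x' ^ i := by
    intro b
    obtain ⟨i, hi⟩ := (isOfFinOrder_of_finite x).mem_powers_iff_mem_zpowers.mpr b.2
    exact ⟨i, Subtype.ext (by simpa using hi.symm)⟩
  have horb : ∀ a ∈ Hs, (Hs.filter fun b : H => IsConj (a : G) b).card = e := by
    intro a ha
    obtain ⟨i, hi⟩ := hpow a
    have hip : (Nat.card H).Coprime i := by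
      rw [hqH, hp.coprime_iff_not_dvd]
      rintro ⟨c, rfl⟩
      refine Finset.ne_of_mem_erase ha ?_
      rw [hi, pow_mul]
      have : x' ^ p = 1 := Subtype.ext (by
        rw [SubmonoidClass.coe_pow, OneMemClass.coe_one]
        exact hx ▸ pow_orderOf_eq_one x)
      rw [this, one_pow]
    obtain ⟨m, hm⟩ := exists_pow_eq_self_of_coprime (x := x) (n := i)
      (by rw [hx, ← hqH]; exact hip.symm)
    refine (Finset.card_equiv (powCoprime hip) fun b => ?_).symm
    obtain ⟨s, hs⟩ := hpow b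
    simp only [Finset.mem_filter, Finset.mem_erase, hHs, Finset.mem_univ, and_true,
      powCoprime_apply]
    refine and_congr (not_congr ⟨fun hb => by rw [hb, one_pow], fun hb => ?_⟩)
      ⟨fun hc => ?_, fun hc => ?_⟩
    · exact (powCoprime hip).injective (by rw [powCoprime_apply, powCoprime_apply, hb, one_pow])
    · rw [hi, SubmonoidClass.coe_pow, SubmonoidClass.coe_pow]
      exact hc.pow i
    · have h1 := hc.pow m
      have hbm : ((b ^ i : H) : G) ^ m = (b : G) := by
        rw [hs, SubmonoidClass.coe_pow, SubmonoidClass.coe_pow]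
        show ((x ^ s) ^ i) ^ m = x ^ s
        rw [pow_right_comm x s i, pow_right_comm (x ^ i) s m, hm]
      rw [hbm, hi, SubmonoidClass.coe_pow] at h1
      exact (show (x ^ i) ^ m = x from hm) ▸ h1
  have hHscard : Hs.card = p - 1 := by
    rw [hHs, Finset.card_erase_of_mem (Finset.mem_univ _), Finset.card_univ,
      ← Nat.card_eq_fintype_card, hqH]
  set U : ℝ := ∑ χ ∈ B, v χ ^ 2 with hU
  have hp1 : (1 : ℕ) ≤ p := hp.one_le
  have hUeq : U = ((p : ℝ) - 1) * e * q := by
    rw [hUsum, Finset.sum_congr rfl fun a ha => by rw [horb a ha], Finset.sum_const, smul_eq_mul,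
      hHscard]
    push_cast [Nat.cast_sub hp1]
    ring
  have he2 : 2 ≤ e := by
    obtain ⟨n, hn, hn1⟩ := hfus
    rw [he]
    refine Finset.one_lt_card.mpr ⟨x', Finset.mem_filter.mpr ⟨Finset.mem_erase.mpr
      ⟨hx1, Finset.mem_univ _⟩, IsConj.refl _⟩, ⟨_, hn⟩, Finset.mem_filter.mpr
      ⟨Finset.mem_erase.mpr ⟨fun h1 => hx1 (Subtype.ext ?_), Finset.mem_univ _⟩,
        isConj_iff.mpr ⟨n, rfl⟩⟩, fun h1 => hn1 (congrArg Subtype.val h1).symm⟩
    exact conj_eq_one_iff.mp (congrArg Subtype.val h1)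
  have hele : e ≤ p - 1 := hHscard ▸ Finset.card_filter_le _ _
  -- a character with large ratio
  have hp3 : 3 ≤ p := by
    have := hp.two_le
    omega
  have hpR : (3 : ℝ) ≤ p := by exact_mod_cast hp3
  set t : IrrCharacter G := Blocks.trivIrr G with ht
  have htB : t ∈ B := by
    rw [hB, Finset.mem_filter, Blocks.principalBlock_eq]
    exact ⟨Finset.mem_univ _, Blocks.mem_blockOf_self (M := M) t⟩
  have hdt : d t = 1 := by
    have := hd t
    simp only [ht, Blocks.trivIrr] at this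
    exact_mod_cast this.symm
  have hkt : k t = 1 := by
    have h1 := hk t
    simp only [ht, Blocks.trivIrr, Finset.sum_const, Finset.card_univ, nsmul_eq_mul, mul_one,
      ← Nat.card_eq_fintype_card] at h1
    have h2 : Nat.card H = Nat.card H * k t := by exact_mod_cast h1
    exact (mul_eq_left₀ Nat.card_pos.ne').mp h2.symm
  have hvt : v t = (p : ℝ) - 1 := by simp only [hvdef, hkt, hdt, hqH, Nat.cast_one, mul_one]
  set r0 : ℝ := (((p : ℝ) - 2) * U - ((p : ℝ) - 1) ^ 3) / (U - ((p : ℝ) - 1) ^ 2) with hr0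
  obtain ⟨Q, hQ⟩ : p ∣ q := (dvd_of_eq hqH.symm).trans (Subgroup.card_dvd_of_le hHP)
  have hQ1 : 1 ≤ Q := Nat.one_le_iff_ne_zero.mpr fun h0 => by
    rw [h0, mul_zero] at hQ
    exact Nat.card_pos.ne' hQ
  have hUlo : ((p : ℝ) - 1) ^ 2 < U := by
    rw [hUeq, hQ]
    push_cast
    have h1 : (2 : ℝ) ≤ e := by exact_mod_cast he2
    have h2 : (1 : ℝ) ≤ Q := by exact_mod_cast hQ1
    nlinarith [mul_le_mul h1 h2 zero_le_one (by linarith)]
  have hcubeU : ∑ χ ∈ B, v χ ^ 3 / d χ = ((p : ℝ) - 2) * U := by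
    rw [hU]
    refine hcube.trans ?_
    rw [hqH]
  have e1 := Finset.add_sum_erase _ (fun χ => v χ ^ 3 / d χ) htB
  have e2 := Finset.add_sum_erase _ (fun χ => v χ ^ 2) htB
  simp only [hdt, hvt, Nat.cast_one, div_one] at e1 e2
  rw [← hU] at e2
  rw [hcubeU] at e1
  obtain ⟨χ, hχ, hχbig⟩ : ∃ χ ∈ B.erase t, r0 * d χ < v χ := by
    by_contra hc
    push Not at hc
    have hr00 : 0 < r0 := by
      rw [hr0]
      refine div_pos ?_ (by linarith)
      have h1 : ((p : ℝ) - 1) * (2 * p) ≤ U := by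
        have h1 : (2 : ℝ) * p ≤ e * q := by
          have h1 : (2 : ℝ) ≤ e := by exact_mod_cast he2
          have h2 : (p : ℝ) ≤ q := by exact_mod_cast (Nat.le_of_dvd Nat.card_pos ⟨Q, hQ⟩)
          exact mul_le_mul h1 h2 (by linarith) (by linarith)
        rw [hUeq, mul_assoc]
        exact mul_le_mul_of_nonneg_left h1 (by linarith)
      have h2 := mul_le_mul_of_nonneg_left h1 (show (0 : ℝ) ≤ (p : ℝ) - 2 by linarith)
      nlinarith [mul_pos (show (0 : ℝ) < (p : ℝ) - 1 by linarith)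
        (show (0 : ℝ) < (p : ℝ) * ((p : ℝ) - 2) - 1 by nlinarith)]
    obtain ⟨χn, hχn, hvn⟩ : ∃ χ ∈ B.erase t, v χ < 0 := by
      by_contra hc'
      push Not at hc'
      have hdv' : ∑ χ ∈ B, (d χ : ℝ) * v χ = 0 := hdv
      rw [← Finset.add_sum_erase _ _ htB, hdt, hvt, Nat.cast_one, one_mul] at hdv'
      have h1 : (0 : ℝ) ≤ ∑ χ ∈ B.erase t, (d χ : ℝ) * v χ :=
        Finset.sum_nonneg fun χ hχ => mul_nonneg (Nat.cast_nonneg _) (hc' χ hχ)
      linarith
    have hlt : ∑ χ ∈ B.erase t, v χ ^ 3 / d χ < ∑ χ ∈ B.erase t, r0 * v χ ^ 2 := by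
      refine Finset.sum_lt_sum (fun ψ hψ => ?_) ⟨χn, hχn, ?_⟩
      · have hd' : (0 : ℝ) < d ψ := by exact_mod_cast hd0 ψ
        rw [div_le_iff₀ hd']
        nlinarith [mul_le_mul_of_nonneg_left (hc ψ hψ) (sq_nonneg (v ψ))]
      · have hd' : (0 : ℝ) < d χn := by exact_mod_cast hd0 χn
        have hv2 : 0 < v χn ^ 2 := sq_pos_of_ne_zero hvn.ne
        rw [div_lt_iff₀ hd']
        nlinarith [mul_pos (mul_pos hr00 hv2) hd', mul_neg_of_pos_of_neg hv2 hvn]
    rw [← Finset.mul_sum] at hlt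
    have e3 : ∑ χ ∈ B.erase t, v χ ^ 2 = U - ((p : ℝ) - 1) ^ 2 := by linarith
    rw [e3, hr0, div_mul_cancel₀ _ (by linarith)] at hlt
    linarith
  obtain ⟨hχt, hχB⟩ := Finset.mem_erase.mp hχ
  -- multiplicities on `P`
  choose mP hmP using fun (ψ : IrrCharacter G) (w : IrrCharacter (P : Subgroup G)) =>
    exists_nat_classInner (isCharacter_restrict (P : Subgroup G) (isCharacter_of_isIrr ψ.2))
      (isCharacter_of_isIrr w.2)
  have hexpP : ∀ (ψ : IrrCharacter G) (a : (P : Subgroup G)), (ψ : G → ℂ) a =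
      ∑ w : IrrCharacter (P : Subgroup G), (mP ψ w : ℂ) * (w : ↥(P : Subgroup G) → ℂ) a := by
    intro ψ a
    have h1 := congrFun (classFunction_expansion (isClassFunction_restrict (P : Subgroup G)
      (Blocks.irr_classFunction ψ))) a
    simp only [Finset.sum_apply, Pi.smul_apply, smul_eq_mul, hmP] at h1
    exact h1
  have hlin : ∀ w : IrrCharacter (P : Subgroup G), (w : ↥(P : Subgroup G) → ℂ) 1 = 1 :=
    degree_one_of_comm fun a b => Subtype.ext (hPcomm a a.2 b b.2)
  set xP : (P : Subgroup G) := ⟨x, hxP⟩ with hxP'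
  have hsumH : ∀ w : IrrCharacter (P : Subgroup G),
      ∑ a : H, (w : ↥(P : Subgroup G) → ℂ) ⟨a, hHP a.2⟩ =
        if (w : ↥(P : Subgroup G) → ℂ) xP = 1 then (p : ℂ) else 0 := by
    intro w
    have hmul := linear_mul (isCharacter_of_isIrr w.2) (hlin w)
    split_ifs with hw
    · rw [Finset.sum_congr rfl (g := fun _ => (1 : ℂ)) fun a _ => ?_, Finset.sum_const,
        Finset.card_univ, nsmul_eq_mul, mul_one, ← Nat.card_eq_fintype_card, hqH]
      obtain ⟨i, hi⟩ := hpow a
      have hai : (⟨(a : G), hHP a.2⟩ : (P : Subgroup G)) = xP ^ i := Subtype.ext (by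
        rw [hi, SubmonoidClass.coe_pow, SubmonoidClass.coe_pow])
      rw [hai]
      clear hi hai
      induction i with
      | zero => rw [pow_zero]; exact hlin w
      | succ i ih => rw [pow_succ, hmul, ih, hw, one_mul]
    · have hsh : (w : ↥(P : Subgroup G) → ℂ) xP * ∑ a : H, (w : ↥(P : Subgroup G) → ℂ) ⟨a, hHP a.2⟩ =
          ∑ a : H, (w : ↥(P : Subgroup G) → ℂ) ⟨a, hHP a.2⟩ := by
        rw [Finset.mul_sum]
        refine (Finset.sum_congr rfl fun a _ => (hmul _ _).symm).trans ?_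
        exact Equiv.sum_comp (Equiv.mulLeft x') fun a : H =>
          (w : ↥(P : Subgroup G) → ℂ) ⟨a, hHP a.2⟩
      have h0 : ((w : ↥(P : Subgroup G) → ℂ) xP - 1) *
          ∑ a : H, (w : ↥(P : Subgroup G) → ℂ) ⟨a, hHP a.2⟩ = 0 := by
        rw [sub_mul, one_mul, hsh, sub_self]
      exact (mul_eq_zero.mp h0).resolve_left (sub_ne_zero.mpr hw)
  set F : Finset (IrrCharacter (P : Subgroup G)) :=
    Finset.univ.filter fun w => (w : ↥(P : Subgroup G) → ℂ) xP ≠ 1 with hF
  set T : Finset (IrrCharacter (P : Subgroup G)) :=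
    Finset.univ.filter fun w => (w : ↥(P : Subgroup G) → ℂ) xP = 1 with hT
  have hkT : ∀ ψ : IrrCharacter G, k ψ = ∑ w ∈ T, mP ψ w := by
    intro ψ
    have h1 := hk ψ
    rw [Finset.sum_congr rfl fun (a : H) _ => hexpP ψ ⟨a, hHP a.2⟩, Finset.sum_comm,
      Finset.sum_congr rfl fun w _ => by rw [← Finset.mul_sum, hsumH w]] at h1
    simp only [mul_ite, mul_zero, ← Finset.sum_filter, ← hT] at h1
    rw [← Finset.sum_mul, ← Nat.cast_sum, hqH, mul_comm (p : ℂ)] at h1
    exact (Nat.cast_inj.mp (mul_right_cancel₀ (Nat.cast_ne_zero.mpr hp.ne_zero) h1)).symm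
  have hdP : ∀ ψ : IrrCharacter G, d ψ = k ψ + ∑ w ∈ F, mP ψ w := by
    intro ψ
    have h1 := hexpP ψ 1
    rw [OneMemClass.coe_one, hd] at h1
    simp only [hlin, mul_one, ← Nat.cast_sum, Nat.cast_inj] at h1
    rw [hkT, h1, ← Finset.sum_filter_add_sum_filter_not Finset.univ
      (fun w : IrrCharacter (P : Subgroup G) => (w : ↥(P : Subgroup G) → ℂ) xP = 1)]
  have hFcard : (F.card : ℝ) = ((p : ℝ) - 1) * Q := by
    have h1 : ∀ a : (P : Subgroup G), ∑ w : IrrCharacter (P : Subgroup G),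
        (w : ↥(P : Subgroup G) → ℂ) a = if a = 1 then (q : ℂ) else 0 := fun a => by
      have := sum_degree_mul_irr a
      simp only [hlin, one_mul] at this
      convert this using 2
    have htot : ((Finset.univ : Finset (IrrCharacter (P : Subgroup G))).card : ℂ) = q := by
      rw [← if_pos (rfl : (1 : (P : Subgroup G)) = 1) (t := (q : ℂ)) (e := 0), ← h1 1]
      simp [hlin]
    have hTc : (T.card : ℂ) * p = q := by
      have h2 : ∑ w : IrrCharacter (P : Subgroup G), ∑ a : H,
          (w : ↥(P : Subgroup G) → ℂ) ⟨a, hHP a.2⟩ = q := by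
        rw [Finset.sum_comm, Finset.sum_eq_single (1 : H) (fun a _ ha => ?_) (by simp)]
        · exact (h1 _).trans (if_pos rfl)
        · rw [h1, if_neg]
          intro hc
          exact ha (Subtype.ext (congrArg (fun z : (P : Subgroup G) => (z : G)) hc))
      rw [Finset.sum_congr rfl fun w _ => hsumH w, ← Finset.sum_filter, ← hT, Finset.sum_const,
        nsmul_eq_mul] at h2
      exact h2
    have hTn : T.card * p = p * Q := by rw [← hQ]; exact_mod_cast hTc
    have hTQ : T.card = Q := Nat.eq_of_mul_eq_mul_right hp.pos (hTn.trans (mul_comm p Q))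
    have hsplit : T.card + F.card = p * Q := by
      rw [← hQ, hT, hF, Finset.card_filter_add_card_filter_not]
      exact_mod_cast htot
    rw [hTQ] at hsplit
    have h3 : ((Q : ℕ) : ℝ) + F.card = (p : ℝ) * Q := by exact_mod_cast hsplit
    linarith
  set D := ∑ w ∈ F, mP χ w with hD
  have hχd : d χ = k χ + D := hdP χ
  -- the multiplicity on `H`
  have hDH : e ≤ D ∧ ∃ w0 ∈ F, 0 < mP χ w0 := by
    have hexpH : ∀ a : H, (χ : G → ℂ) a =
        ∑ μ : IrrCharacter H, (nH χ μ : ℂ) * (μ : H → ℂ) a := by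
      intro a
      have h1 := congrFun (classFunction_expansion (isClassFunction_restrict H
        (Blocks.irr_classFunction χ))) a
      simp only [Finset.sum_apply, Pi.smul_apply, smul_eq_mul, hnH] at h1
      exact h1
    have hlinH : ∀ μ : IrrCharacter H, (μ : H → ℂ) 1 = 1 := degree_one_of_comm fun a b =>
      Subtype.ext (hPcomm a (hHP a.2) b (hHP b.2))
    have hdH : d χ = k χ + ∑ μ ∈ Finset.univ.erase one, nH χ μ := by
      have h1 := hexpH 1
      rw [OneMemClass.coe_one, hd] at h1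
      simp only [hlinH, mul_one, ← Nat.cast_sum, Nat.cast_inj] at h1
      rw [h1, hkdef, Finset.add_sum_erase _ _ (Finset.mem_univ one)]
    have hDeq : D = ∑ μ ∈ Finset.univ.erase one, nH χ μ := by omega
    have hw0 : ∃ w0 ∈ F, 0 < mP χ w0 := by
      by_contra hc
      push Not at hc
      refine hfaith χ (fun e => hχt (Subtype.ext e)) ?_
      have h1 := hexpP χ xP
      rw [show ((xP : (P : Subgroup G)) : G) = x from rfl] at h1
      have h2 := hexpP χ 1
      rw [OneMemClass.coe_one] at h2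
      rw [h1, h2]
      refine Finset.sum_congr rfl fun w _ => ?_
      by_cases hw : (w : ↥(P : Subgroup G) → ℂ) xP = 1
      · rw [hw, hlin]
      · rw [Nat.le_zero.mp (hc w (Finset.mem_filter.mpr ⟨Finset.mem_univ _, hw⟩))]
        simp
    refine ⟨?_, hw0⟩
    obtain ⟨w0, hw0F, hw0⟩ := hw0
    have hDpos : 0 < D := lt_of_lt_of_le hw0 (Finset.single_le_sum (fun w _ => Nat.zero_le _) hw0F)
    obtain ⟨μ0, hμ0, hnμ0⟩ : ∃ μ ∈ Finset.univ.erase one, 0 < nH χ μ := by
      by_contra hc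
      push Not at hc
      rw [hDeq, Finset.sum_eq_zero fun μ hμ => Nat.le_zero.mp (hc μ hμ)] at hDpos
      exact lt_irrefl 0 hDpos
    have hμx : (μ0 : H → ℂ) x' ≠ 1 := by
      intro h1
      refine (Finset.mem_erase.mp hμ0).1 (Subtype.ext (funext fun a => ?_))
      obtain ⟨i, rfl⟩ := hpow a
      show (μ0 : H → ℂ) (x' ^ i) = 1
      induction i with
      | zero => rw [pow_zero]; exact hlinH μ0
      | succ i ih => rw [pow_succ, linear_mul (isCharacter_of_isIrr μ0.2) (hlinH μ0), ih, h1, one_mul]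
    have hμpow : ∀ i : ℕ, (μ0 : H → ℂ) (x' ^ i) = (μ0 : H → ℂ) x' ^ i := by
      intro i
      induction i with
      | zero => rw [pow_zero, pow_zero]; exact hlinH μ0
      | succ i ih => rw [pow_succ, pow_succ, linear_mul (isCharacter_of_isIrr μ0.2) (hlinH μ0), ih]
    have hμord : orderOf ((μ0 : H → ℂ) x') = p := by
      refine orderOf_eq_prime ?_ hμx
      rw [← hμpow, show x' ^ p = 1 from Subtype.ext (by
        rw [SubmonoidClass.coe_pow, OneMemClass.coe_one]; exact hx ▸ pow_orderOf_eq_one x)]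
      exact hlinH μ0
    choose s hs using hpow
    have hsc : ∀ b ∈ Hs, (s b).Coprime (Nat.card H) := by
      intro b hb
      rw [hqH, Nat.coprime_comm, hp.coprime_iff_not_dvd]
      rintro ⟨c, hc⟩
      refine Finset.ne_of_mem_erase hb ?_
      rw [hs b, hc, pow_mul, show x' ^ p = 1 from Subtype.ext (by
        rw [SubmonoidClass.coe_pow, OneMemClass.coe_one]; exact hx ▸ pow_orderOf_eq_one x), one_pow]
    let tw : H → IrrCharacter H := fun b =>
      if hb : (s b).Coprime (Nat.card H) then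
        ⟨fun a => (μ0 : H → ℂ) (a ^ s b), isIrrCharacter_pow hb μ0.2⟩ else one
    have htw : ∀ b ∈ Hs, (tw b : H → ℂ) = fun a => (μ0 : H → ℂ) (a ^ s b) := fun b hb => by
      simp only [tw, dif_pos (hsc b hb)]
    rw [hDeq, he]
    refine le_trans ?_ (Finset.sum_le_sum_of_subset (f := fun μ => nH χ μ)
      (s := (Hs.filter fun b : H => IsConj x (b : G)).image tw) ?_)
    · rw [Finset.sum_image, Finset.card_eq_sum_ones]
      · refine Finset.sum_le_sum fun b hb => ?_
        obtain ⟨hbHs, hbc⟩ := Finset.mem_filter.mp hb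
        refine Nat.one_le_iff_ne_zero.mpr fun h0 => hnμ0.ne' ?_
        have key : classInner (fun a : H => (χ : G → ℂ) a) (tw b : H → ℂ) =
            classInner (fun a : H => (χ : G → ℂ) a) (μ0 : H → ℂ) := by
          rw [htw b hbHs]
          simp only [classInner]
          congr 1
          refine Eq.trans ?_ (Equiv.sum_comp (powCoprime (hsc b hbHs).symm) fun a : H =>
            (χ : G → ℂ) a * conj ((μ0 : H → ℂ) a))
          refine Finset.sum_congr rfl fun a _ => ?_
          rw [powCoprime_apply]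
          congr 1
          refine eq_of_isConj (Blocks.irr_classFunction χ) ?_
          have ha := hs a
          rw [ha, ← pow_mul, mul_comm, pow_mul, ← hs b, SubmonoidClass.coe_pow,
            SubmonoidClass.coe_pow]
          exact hbc.pow _
        rw [hnH, hnH, Nat.cast_inj] at key
        rw [← key]; exact h0
      · intro b hb b' hb' e
        have hb1 := (Finset.mem_filter.mp (Finset.mem_coe.mp hb)).1
        have hb2 := (Finset.mem_filter.mp (Finset.mem_coe.mp hb')).1
        have h1 := congrFun (congrArg Subtype.val e) x'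
        rw [htw b hb1, htw b' hb2] at h1
        simp only [hμpow] at h1
        rw [(orderOf_pos_iff.mp (hμord ▸ hp.pos)).pow_eq_pow_iff_modEq, hμord] at h1
        rw [hs b, hs b', pow_eq_pow_iff_modEq, ← Subgroup.orderOf_coe]
        rwa [show ((x' : H) : G) = x from rfl, hx]
    · intro μ hμ
      obtain ⟨b, hb, rfl⟩ := Finset.mem_image.mp hμ
      have hb1 := (Finset.mem_filter.mp hb).1
      refine Finset.mem_erase.mpr ⟨fun e => hμx ?_, Finset.mem_univ _⟩
      have h1 := congrFun (congrArg Subtype.val e) x'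
      rw [htw b hb1, hone] at h1
      simp only [hμpow] at h1
      have h2 := orderOf_dvd_of_pow_eq_one h1
      rw [hμord] at h2
      exact absurd h2 ((Nat.Prime.coprime_iff_not_dvd hp).mp (hqH ▸ (hsc b hb1).symm))
  obtain ⟨heD, w0, hw0F, hw0⟩ := hDH
  -- Galois conjugates
  set O : Finset (IrrCharacter G) :=
    B.filter fun ψ => v ψ = v χ ∧ d ψ = d χ with hO
  obtain ⟨u, hu⟩ := hcyc.exists_generator
  obtain ⟨a, ha⟩ := IsPGroup.iff_card.mp P.2
  have huord : orderOf u = q := by rw [hq]; exact orderOf_eq_card_of_forall_mem_zpowers hu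
  have hupow : ∀ y : (P : Subgroup G), ∃ i : ℕ, y = u ^ i := fun y => by
    obtain ⟨i, hi⟩ := (isOfFinOrder_of_finite u).mem_powers_iff_mem_zpowers.mpr (hu y)
    exact ⟨i, hi.symm⟩
  have hwpow : ∀ (w : IrrCharacter (P : Subgroup G)) (y : (P : Subgroup G)) (i : ℕ),
      (w : ↥(P : Subgroup G) → ℂ) (y ^ i) = (w : ↥(P : Subgroup G) → ℂ) y ^ i := by
    intro w y i
    induction i with
    | zero => rw [pow_zero, pow_zero]; exact hlin w
    | succ i ih => rw [pow_succ, pow_succ, linear_mul (isCharacter_of_isIrr w.2) (hlin w), ih]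
  have hprim : ∀ w ∈ F, IsPrimitiveRoot ((w : ↥(P : Subgroup G) → ℂ) u) q := by
    intro w hw
    have h1 : ((w : ↥(P : Subgroup G) → ℂ) u) ^ q = 1 := by
      rw [← hwpow, ← huord, pow_orderOf_eq_one]; exact hlin w
    rw [IsPrimitiveRoot.iff_orderOf]
    have hdvd : orderOf ((w : ↥(P : Subgroup G) → ℂ) u) ∣ p ^ a := by
      rw [← ha, ← hq]; exact orderOf_dvd_of_pow_eq_one h1
    obtain ⟨i, hia, hi⟩ := (Nat.dvd_prime_pow hp).mp hdvd
    by_contra hne
    have hia' : i + 1 ≤ a := by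
      rcases Nat.lt_or_ge i a with h | h
      · exact h
      · exact absurd (hi.trans (by rw [le_antisymm hia h, ← ha, ← hq])) hne
    refine (Finset.mem_filter.mp hw).2 ?_
    obtain ⟨s, hs⟩ := hupow xP
    have hxp : u ^ (s * p) = 1 := by
      rw [pow_mul, ← hs]
      exact Subtype.ext (by rw [SubmonoidClass.coe_pow, OneMemClass.coe_one]; exact hx ▸ pow_orderOf_eq_one x)
    have hdiv : p ^ a ∣ s * p := by
      rw [← ha, ← hq, ← huord]; exact orderOf_dvd_of_pow_eq_one hxp
    have hs' : p ^ i ∣ s := by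
      have h2 : p ^ i * p ∣ s * p := by
        rw [← pow_succ]; exact (pow_dvd_pow p hia').trans hdiv
      exact Nat.dvd_of_mul_dvd_mul_right hp.pos h2
    obtain ⟨c, rfl⟩ := hs'
    rw [hs, hwpow, pow_mul, ← hi, pow_orderOf_eq_one, one_pow]
  have hcover : ∀ μ ∈ F, ∃ ψ ∈ O, 0 < mP ψ μ := by
    intro μ hμ
    haveI : NeZero q := ⟨Nat.card_pos.ne'⟩
    obtain ⟨i, -, hi⟩ := (hprim w0 hw0F).eq_pow_of_pow_eq_one ((hprim μ hμ).pow_eq_one)
    have hiq : i.Coprime q :=
      ((hprim w0 hw0F).pow_iff_coprime Nat.card_pos i).mp (hi.symm ▸ hprim μ hμ)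
    set A := (Nat.card G).factorization p with hA
    set m' := Nat.card G / p ^ A with hm'
    have hcop : (p ^ A).Coprime m' :=
      Nat.Coprime.pow_left A (Nat.coprime_ordCompl hp Nat.card_pos.ne')
    obtain ⟨c, hc1, hc2⟩ := Nat.chineseRemainder hcop i 1
    have hcG : c.Coprime (Nat.card G) := by
      rw [← Nat.ordProj_mul_ordCompl_eq_self (Nat.card G) p]
      refine Nat.Coprime.mul_right (Nat.Coprime.pow_right A ?_) ?_
      · rw [Nat.coprime_comm, hp.coprime_iff_not_dvd]
        intro hd'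
        have hpi : p ∣ i := by
          have hA0 : p ∣ p ^ A := dvd_pow_self p fun h0 => by
            have := hp.factorization_pos_of_dvd Nat.card_pos.ne' (hx ▸ orderOf_dvd_natCard x)
            omega
          exact ((hc1.of_dvd hA0).dvd_iff dvd_rfl).mp hd'
        exact hp.not_dvd_one (hiq ▸ Nat.dvd_gcd hpi ⟨Q, hQ⟩)
      · exact (Nat.ModEq.gcd_eq hc2).trans (Nat.gcd_one_left _)
    set ψ := powIrr hcG χ with hψ
    have hψv : ∀ g, (ψ : G → ℂ) g = (χ : G → ℂ) (g ^ c) := powIrr_apply hcG χ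
    have hψB : ψ ∈ B := by
      refine Finset.mem_filter.mpr ⟨Finset.mem_univ _, mem_block_of_regular hM
        Blocks.isPBlock_principalBlock (Finset.mem_filter.mp hχB).2 fun g hg => ?_⟩
      rw [hψv]
      conv_rhs => rw [← pow_one g]
      refine congrArg _ ?_
      refine (pow_eq_pow_iff_modEq (x := g)).mpr (hc2.of_dvd ?_)
      exact (Nat.Coprime.pow_right A ((hp.coprime_iff_not_dvd.mpr hg).symm)).dvd_of_dvd_mul_left
        (by rw [hm', Nat.ordProj_mul_ordCompl_eq_self]; exact orderOf_dvd_natCard g)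
    have hψd : d ψ = d χ := by
      have h1 := hd ψ
      rw [hψv, one_pow, hd, Nat.cast_inj] at h1
      exact h1.symm
    have hψk : k ψ = k χ := by
      have h1 := hk ψ
      have hcH : (Nat.card H).Coprime c := (Nat.Coprime.coprime_dvd_right
        H.card_subgroup_dvd_card hcG).symm
      rw [Finset.sum_congr rfl fun (z : H) _ => hψv (z : G)] at h1
      have h2 : ∑ z : H, (χ : G → ℂ) ((z : G) ^ c) = ∑ z : H, (χ : G → ℂ) (z : G) :=
        Equiv.sum_comp (powCoprime hcH) fun z : H => (χ : G → ℂ) (z : G)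
      rw [h2, hk] at h1
      exact (Nat.cast_inj.mp (mul_left_cancel₀ (Nat.cast_ne_zero.mpr Nat.card_pos.ne') h1)).symm
    refine ⟨ψ, Finset.mem_filter.mpr ⟨hψB, by simp only [hvdef, hψd, hψk], hψd⟩, ?_⟩
    have key : classInner (fun y : (P : Subgroup G) => (ψ : G → ℂ) y) (μ : ↥(P : Subgroup G) → ℂ) =
        classInner (fun y : (P : Subgroup G) => (χ : G → ℂ) y) (w0 : ↥(P : Subgroup G) → ℂ) := by
      have hcP : (Nat.card (P : Subgroup G)).Coprime c :=
        (Nat.Coprime.coprime_dvd_right (Subgroup.card_subgroup_dvd_card _) hcG).symm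
      simp only [classInner]
      congr 1
      refine Eq.trans ?_ (Equiv.sum_comp (powCoprime hcP) fun y : (P : Subgroup G) =>
        (χ : G → ℂ) y * conj ((w0 : ↥(P : Subgroup G) → ℂ) y))
      refine Finset.sum_congr rfl fun y _ => ?_
      rw [powCoprime_apply, hψv, SubmonoidClass.coe_pow]
      congr 2
      obtain ⟨s, rfl⟩ := hupow y
      rw [hwpow μ, ← hi, ← pow_mul u, hwpow w0, ← pow_mul]
      rw [(orderOf_pos_iff.mp ((hprim w0 hw0F).eq_orderOf ▸ Nat.card_pos)).pow_eq_pow_iff_modEq,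
        ← (hprim w0 hw0F).eq_orderOf]
      have hqA : q ∣ p ^ A := by rw [hq, P.card_eq_multiplicity]
      rw [mul_comm s c]
      exact ((hc1.of_dvd hqA).symm.mul_right s)
    rw [hmP, hmP, Nat.cast_inj] at key
    rw [key]; exact hw0
  have hcount : F.card ≤ O.card * D := by
    calc F.card = ∑ μ ∈ F, 1 := Finset.card_eq_sum_ones F
      _ ≤ ∑ μ ∈ F, ∑ ψ ∈ O, mP ψ μ := Finset.sum_le_sum fun μ hμ => by
          obtain ⟨ψ, hψ, hpos⟩ := hcover μ hμ
          exact le_trans hpos (Finset.single_le_sum (f := fun ψ => mP ψ μ) (fun _ _ => Nat.zero_le _) hψ)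
      _ = ∑ ψ ∈ O, ∑ μ ∈ F, mP ψ μ := Finset.sum_comm
      _ = ∑ ψ ∈ O, D := Finset.sum_congr rfl fun ψ hψ => by
          obtain ⟨-, hψv, hψd⟩ := Finset.mem_filter.mp hψ
          have h1 := hdP ψ
          have h2 : k ψ = k χ := by
            simp only [hvdef, hψd] at hψv
            have h3 : (Nat.card H : ℝ) * k ψ = Nat.card H * k χ := by linarith
            exact_mod_cast mul_left_cancel₀ (Nat.cast_ne_zero.mpr Nat.card_pos.ne') h3
          omega
      _ = O.card * D := by rw [Finset.sum_const, smul_eq_mul]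
  have hsumO : (O.card : ℝ) * v χ ^ 2 ≤ U - ((p : ℝ) - 1) ^ 2 := by
    have hsub : O ⊆ B.erase t := fun ψ hψ => by
      obtain ⟨hψB, hψv, hψd⟩ := Finset.mem_filter.mp hψ
      refine Finset.mem_erase.mpr ⟨fun e => ?_, hψB⟩
      rw [e, hdt] at hψd
      have := hdP χ
      omega
    have h1 : ∑ ψ ∈ O, v χ ^ 2 ≤ ∑ ψ ∈ B.erase t, v ψ ^ 2 :=
      le_trans (le_of_eq (Finset.sum_congr rfl fun ψ hψ => by
          rw [(Finset.mem_filter.mp hψ).2.1]))
        (Finset.sum_le_sum_of_subset_of_nonneg hsub fun ψ _ _ => sq_nonneg _)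
    rw [Finset.sum_const, nsmul_eq_mul] at h1
    linarith
  have hvχ : v χ = (p : ℝ) * k χ - d χ := by simp only [hvdef, hqH]
  refine arith_contra (N := O.card) (U := U) hp3 (fun h4 => by rw [h4] at hp; norm_num at hp) hQ1
    hQ he2 hele heD hχd hUeq ?_ ?_ (hvχ ▸ hsumO)
  · rw [← hvχ]
    have hd' : (0 : ℝ) < d χ := by exact_mod_cast hd0 χ
    have h1 : r0 < v χ / d χ := by rw [lt_div_iff₀ hd']; exact hχbig
    rw [hr0, div_lt_iff₀ (by linarith)] at h1
    linarith
  · rw [← hFcard]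
    exact_mod_cast hcount

end CfsgLib.CyclicPairs
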