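import Cfsg.Agent.Lib.ExtClosedP.Coset
import Cfsg.Agent.Lib.ExtClosedP.Principal
import Cfsg.Agent.Lib.Blocks.PrincipalQuot

/-!
# The class product identity in the principal block

`H` is a `p`-subgroup such that every conjugate of an element `x` of `H` lies in a coset `R (c x)`
of a normalized subgroup `R` of order prime to `p`, on whose sections the characters of the
principal block are constant.  With `v(χ) = ∑_{x ∈ H, x ≠ 1} χ(x)` and `q = |H|` this forces
`∑ v³/χ(1) = (q - 2) ∑ v²` over the principal block.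
-/

set_option autoImplicit false

namespace CfsgLib.CyclicPairs

open Cfsg CfsgLib.Char
open scoped ComplexConjugate CfsgLib.Char

universe u

variable {G : Type u} [Group G] [Fintype G] {p : ℕ} [Fact p.Prime] {M : Ideal AlgInt}

theorem cube_identity (hM : IsPModular p M) {H : Subgroup G} [Fintype H] (hHp : IsPGroup p H)
    (c : G → H → H) (R : G → H → Subgroup G) (hRp : ∀ g x, ¬ p ∣ Nat.card (R g x))
    (hRn : ∀ g x, H ≤ Subgroup.normalizer (R g x : Set G))
    (hmem : ∀ (g : G) (x : H), g * x * g⁻¹ * ((c g x : H) : G)⁻¹ ∈ R g x)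
    [DecidablePred (· ∈ principalBlock M G)]
    (hval : ∀ χ ∈ principalBlock M G, ∀ g x, ∀ t ∈ R g x, ∀ e ∈ H, e ≠ 1 → t * e = e * t →
      (χ : G → ℂ) (t * e) = (χ : G → ℂ) e)
    (d : IrrCharacter G → ℕ) (hd0 : ∀ χ, 0 < d χ) (hd : ∀ χ : IrrCharacter G, (χ : G → ℂ) 1 = d χ)
    (k : IrrCharacter G → ℕ)
    (hk : ∀ χ : IrrCharacter G, ∑ x : H, (χ : G → ℂ) x = (Nat.card H : ℂ) * k χ) :
    ∑ χ : IrrCharacter G with χ ∈ principalBlock M G,
        ((Nat.card H : ℝ) * k χ - d χ) ^ 3 / d χ =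
      ((Nat.card H : ℝ) - 2) * ∑ χ : IrrCharacter G with χ ∈ principalBlock M G,
        ((Nat.card H : ℝ) * k χ - d χ) ^ 2 ∧
    ∑ χ : IrrCharacter G with χ ∈ principalBlock M G,
        (d χ : ℝ) * ((Nat.card H : ℝ) * k χ - d χ) = 0 := by
  classical
  have hp : p.Prime := Fact.out
  haveI := Blocks.isPrime_of_isPModular hM
  set q := Nat.card H with hq
  have hHord : ∀ x ∈ H, ∃ j : ℕ, orderOf x = p ^ j := fun x hx => by
    obtain ⟨j, hj⟩ := IsPGroup.iff_orderOf.mp hHp ⟨x, hx⟩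
    exact ⟨j, (Subgroup.orderOf_coe (⟨x, hx⟩ : H)).trans hj⟩
  have hreg1 : ¬ p ∣ orderOf (1 : G) := by rw [orderOf_one, Nat.dvd_one]; exact hp.ne_one
  set Hs : Finset H := Finset.univ.erase 1 with hHs
  have hv : ∀ χ : IrrCharacter G, ∑ x ∈ Hs, (χ : G → ℂ) x = (q : ℂ) * k χ - d χ := fun χ => by
    rw [hHs, Finset.sum_erase_eq_sub (Finset.mem_univ _), hk, OneMemClass.coe_one, hd]
  set v : IrrCharacter G → ℝ := fun χ => (q : ℝ) * k χ - d χ with hvdef
  have hvc : ∀ χ : IrrCharacter G, ∑ x ∈ Hs, (χ : G → ℂ) x = (v χ : ℂ) := fun χ => by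
    rw [hv, hvdef]; push_cast; rfl
  set B : Finset (IrrCharacter G) :=
    Finset.univ.filter (fun χ : IrrCharacter G => χ ∈ principalBlock M G) with hB
  -- orthogonality with regular elements
  have horth : ∀ ρ : G, ¬ p ∣ orderOf ρ → ∑ χ ∈ B, (χ : G → ℂ) ρ * (v χ : ℂ) = 0 := by
    intro ρ hρ
    have e : ∀ χ : IrrCharacter G, (v χ : ℂ) = ∑ x ∈ Hs, conj ((χ : G → ℂ) x) := fun χ => by
      rw [← map_sum, hvc, Complex.conj_ofReal]
    simp only [e, Finset.mul_sum]
    rw [Finset.sum_comm]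
    refine Finset.sum_eq_zero fun x hx => ?_
    have hx1 : (x : G) ≠ 1 := fun e => (Finset.ne_of_mem_erase hx) (Subtype.ext e)
    rw [hB]
    refine Blocks.sum_block_eq_zero_of_not_isConj hM (a := 1) (b := (x : G)) ?_ ?_ ?_
      Blocks.isPBlock_principalBlock
    · exact ⟨ρ, one_mul _, Commute.one_left _, ⟨0, by simp⟩, hρ⟩
    · exact ⟨1, mul_one _, Commute.one_right _, hHord _ x.2, hreg1⟩
    · exact fun hc => hx1 (isConj_one_right.mp hc)
  have hdv : ∑ χ ∈ B, (d χ : ℝ) * v χ = 0 := by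
    have := horth 1 hreg1
    simp only [hd] at this
    exact_mod_cast this
  let Q : G → H → G := fun g x => g * x * g⁻¹ * ((c g x : H) : G)⁻¹
  have hQr : ∀ g x, ¬ p ∣ orderOf (Q g x) := fun g x =>
    ExtClosedP.not_dvd_orderOf (hRp g x) (hmem g x)
  -- the products of two conjugates
  have hkey : ∀ χ : IrrCharacter G, χ ∈ B →
      (Nat.card G : ℂ) * ((q : ℂ) * k χ) ^ 2 = (d χ : ℂ) * ((Nat.card G : ℂ) * q * (v χ : ℂ) +
        ∑ g : G, ∑ x : H, (χ : G → ℂ) (Q g x)) := by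
    intro χ hχ
    have hχ' : χ ∈ principalBlock M G := (Finset.mem_filter.mp hχ).2
    have hterm : ∀ (g : G) (x y : H), (χ : G → ℂ) (g * x * g⁻¹ * y) =
        (χ : G → ℂ) ((c g x * y : H) : G) + if y = (c g x)⁻¹ then
          ((χ : G → ℂ) (Q g x) - d χ) else 0 := by
      intro g x y
      by_cases hy : y = (c g x)⁻¹
      · rw [if_pos hy, hy, mul_inv_cancel, OneMemClass.coe_one, hd, Subgroup.coe_inv]
        ring
      rw [if_neg hy, add_zero]
      set e' : G := ((c g x * y : H) : G) with he'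
      have he'1 : e' ≠ 1 := fun h1 => hy (eq_inv_of_mul_eq_one_right (Subtype.ext h1))
      have he'N : e' ∈ Subgroup.normalizer (R g x : Set G) := hRn g x (c g x * y).2
      have hcop : (Nat.card (R g x)).Coprime (orderOf e') := by
        obtain ⟨j, hj⟩ := hHord e' (c g x * y).2
        rw [hj]
        exact Nat.Coprime.pow_right j (hp.coprime_iff_not_dvd.mpr (hRp g x)).symm
      obtain ⟨t, htR, htc, htconj⟩ :=
        ExtClosedP.exists_isConj_centralizing he'N hcop (hmem g x)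
      have h1 : g * x * g⁻¹ * y = g * x * g⁻¹ * ((c g x : H) : G)⁻¹ * e' := by
        rw [he', Subgroup.coe_mul]
        group
      rw [h1, eq_of_isConj (Blocks.irr_classFunction χ) htconj]
      exact hval χ hχ' g x t htR e' (c g x * y).2 he'1 htc
    have hshift : ∀ z : H, ∑ y : H, (χ : G → ℂ) ((z * y : H) : G) = (q : ℂ) * k χ := fun z =>
      (Equiv.sum_comp (Equiv.mulLeft z) (fun y : H => (χ : G → ℂ) y)).trans (hk χ)
    have hinner : ∀ (g : G) (x : H), ∑ y : H, (χ : G → ℂ) (g * x * g⁻¹ * y) =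
        (v χ : ℂ) + (χ : G → ℂ) (Q g x) := by
      intro g x
      rw [Finset.sum_congr rfl fun y _ => hterm g x y, Finset.sum_add_distrib,
        Finset.sum_ite_eq', if_pos (Finset.mem_univ _), hshift (c g x), ← hvc, hv]
      ring
    have h2 : (d χ : ℂ) * ∑ g : G, ∑ x : H, ∑ y : H, (χ : G → ℂ) (g * x * g⁻¹ * y) =
        (Nat.card G : ℂ) * ((q : ℂ) * k χ) ^ 2 := by
      rw [sq, ← hk χ, Finset.sum_mul_sum, Finset.sum_comm, Finset.mul_sum, Finset.mul_sum]
      refine Finset.sum_congr rfl fun x _ => ?_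
      rw [Finset.sum_comm, Finset.mul_sum, Finset.mul_sum]
      refine Finset.sum_congr rfl fun y _ => ?_
      rw [← hd, ExtClosedP.sum_conj_mul]
    rw [← h2, Finset.sum_congr rfl fun g _ => Finset.sum_congr rfl fun x _ => hinner g x]
    simp only [Finset.sum_add_distrib, Finset.sum_const, Finset.card_univ, nsmul_eq_mul,
      ← Nat.card_eq_fintype_card, ← hq]
    ring
  refine ⟨?_, hdv⟩
  have hQ0 : ∑ χ ∈ B, (∑ g : G, ∑ x : H, (χ : G → ℂ) (Q g x)) * (v χ : ℂ) = 0 := by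
    simp only [Finset.sum_mul]
    rw [Finset.sum_comm]
    refine Finset.sum_eq_zero fun g _ => ?_
    rw [Finset.sum_comm]
    exact Finset.sum_eq_zero fun x _ => horth _ (hQr g x)
  have hterm : ∀ χ ∈ B, (∑ g : G, ∑ x : H, (χ : G → ℂ) (Q g x)) * (v χ : ℂ) =
      (((Nat.card G : ℝ) * (v χ ^ 3 / d χ + (2 - (q : ℝ)) * v χ ^ 2 + d χ * v χ) : ℝ) : ℂ) := by
    intro χ hχ
    have hk' := hkey χ hχ
    have hd' : (d χ : ℂ) ≠ 0 := Nat.cast_ne_zero.mpr (hd0 χ).ne'
    have hv' : (q : ℂ) * k χ = (v χ : ℂ) + d χ := by rw [hvdef]; push_cast; ring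
    rw [hv'] at hk'
    push_cast
    field_simp
    linear_combination (-(v χ : ℂ)) * hk'
  rw [Finset.sum_congr rfl hterm, ← Complex.ofReal_sum, Complex.ofReal_eq_zero, ← Finset.mul_sum,
    mul_eq_zero, or_iff_right (Nat.cast_ne_zero.mpr Nat.card_pos.ne'), Finset.sum_add_distrib,
    Finset.sum_add_distrib, ← Finset.mul_sum, hdv, add_zero] at hQ0
  show ∑ χ ∈ B, v χ ^ 3 / d χ = ((q : ℝ) - 2) * ∑ χ ∈ B, v χ ^ 2
  linarith

open Classical in
/-- The sum of the squares over the principal block, for a normal `p`-complement in all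
centralizers: `|orbit| * q` summed over the nontrivial elements. -/
theorem sum_sq_eq (hM : IsPModular p M) {H : Subgroup G} [Fintype H] (hHp : IsPGroup p H) (q : ℕ)
    [DecidablePred (· ∈ principalBlock M G)]
    (hcol : ∀ a ∈ H, a ≠ 1 → ∑ᶠ ψ ∈ principalBlock M ↥(Subgroup.centralizer ({a} : Set G)),
      charDegree (ψ : Subgroup.centralizer ({a} : Set G) → ℂ) ^ 2 = q)
    (v : IrrCharacter G → ℝ)
    (hv : ∀ χ : IrrCharacter G,
      ∑ x ∈ (Finset.univ : Finset H).erase 1, (χ : G → ℂ) x = (v χ : ℂ)) :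
    ∑ χ : IrrCharacter G with χ ∈ principalBlock M G, v χ ^ 2 =
      ((∑ a ∈ (Finset.univ : Finset H).erase 1,
        ((((Finset.univ : Finset H).erase 1).filter fun b : H => IsConj (a : G) b).card * q) : ℕ) : ℝ) := by
  classical
  have hp : p.Prime := Fact.out
  haveI := Blocks.isPrime_of_isPModular hM
  have hHord : ∀ x ∈ H, ∃ j : ℕ, orderOf x = p ^ j := fun x hx => by
    obtain ⟨j, hj⟩ := IsPGroup.iff_orderOf.mp hHp ⟨x, hx⟩
    exact ⟨j, (Subgroup.orderOf_coe (⟨x, hx⟩ : H)).trans hj⟩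
  have hreg1 : ¬ p ∣ orderOf (1 : G) := by rw [orderOf_one, Nat.dvd_one]; exact hp.ne_one
  set Hs : Finset H := Finset.univ.erase 1 with hHs
  set B : Finset (IrrCharacter G) :=
    Finset.univ.filter (fun χ : IrrCharacter G => χ ∈ principalBlock M G) with hB
  set S : H → H → ℂ := fun x y => ∑ χ ∈ B, (χ : G → ℂ) x * conj ((χ : G → ℂ) y) with hS
  apply Complex.ofReal_injective
  rw [Complex.ofReal_natCast, Nat.cast_sum, Complex.ofReal_sum]
  have h1 : ∑ χ ∈ B, ((v χ ^ 2 : ℝ) : ℂ) = ∑ x ∈ Hs, ∑ y ∈ Hs, S x y := by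
    rw [Finset.sum_congr rfl fun x _ => Finset.sum_comm, Finset.sum_comm]
    refine Finset.sum_congr rfl fun χ _ => ?_
    rw [← Finset.sum_mul_sum, ← map_sum, hv, Complex.conj_ofReal, Complex.ofReal_pow, sq]
  refine h1.trans (Finset.sum_congr rfl fun x hx => ?_)
  have hx1 : (x : G) ≠ 1 := fun e => (Finset.ne_of_mem_erase hx) (Subtype.ext e)
  rw [← Finset.sum_filter_add_sum_filter_not Hs (fun y : H => IsConj (x : G) y), Nat.cast_mul,
    Finset.sum_eq_zero (s := Hs.filter fun y : H => ¬ IsConj (x : G) y) fun y hy => ?_, add_zero,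
    Finset.sum_congr rfl (g := fun _ => (q : ℂ)) fun y hy => ?_, Finset.sum_const, nsmul_eq_mul]
  · have h2 := Blocks.sum_principal_norm_sq hM (hHord _ x.2)
    rw [hcol _ x.2 hx1] at h2
    rw [← h2]
    simp only [hS, hB]
    exact Finset.sum_congr rfl fun χ _ => by
      rw [eq_of_isConj (Blocks.irr_classFunction χ) (Finset.mem_filter.mp hy).2]
  · rw [hS, hB]
    exact Blocks.sum_block_eq_zero_of_not_isConj hM (a := (x : G)) (b := (y : G))
      ⟨1, mul_one _, Commute.one_right _, hHord _ x.2, hreg1⟩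
      ⟨1, mul_one _, Commute.one_right _, hHord _ y.2, hreg1⟩ (Finset.mem_filter.mp hy).2
      Blocks.isPBlock_principalBlock

end CfsgLib.CyclicPairs
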