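import Cfsg.Agent.Lib.CyclicPairs.Bound
import Cfsg.Agent.Lib.CyclicPairs.Local
import Cfsg.Agent.Lib.PairPSolvable.Core
import Cfsg.Agent.Lib.PSolvable.Core

/-!
# Cyclic Sylow `p`-subgroups and `p`-solvable pairs: the reduction
-/

set_option autoImplicit false

namespace CfsgLib.CyclicPairs

open Cfsg CfsgLib.Char

universe u

variable {p : ℕ} [Fact p.Prime]

theorem pair_of_injective {G H : Type*} [Group G] [Finite G] [Group H] (f : H →* G)
    (hf : Function.Injective f) (x y : H)
    (h : IsPSolvable p ↥(Subgroup.closure ({f x, f y} : Set G))) :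
    IsPSolvable p ↥(Subgroup.closure ({x, y} : Set H)) := by
  rw [← Set.image_pair, ← MonoidHom.map_closure] at h
  exact PSolvable.isPSolvable_of_injective
    ((Subgroup.closure ({x, y} : Set H)).equivMapOfInjective f hf).toMonoidHom
    (MulEquiv.injective _) h

theorem isSolvable_of_isCyclic {G : Type*} [Group G] (h : IsCyclic G) : Group.IsSolvable G :=
  haveI : IsMulCommutative G := inferInstance
  Group.isSolvable_of_comm mul_comm'

theorem isPSolvable_of_not_dvd {G : Type*} [Group G] [Finite G] (h : ¬ p ∣ Nat.card G) :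
    IsPSolvable p G := by
  haveI : Subsingleton (G ⧸ (⊤ : Subgroup G)) := QuotientGroup.subsingleton_quotient_top
  refine PSolvable.isPSolvable_of_quotient ⊤ (Or.inr ?_)
    (PSolvable.isPSolvable_of_isSolvable (isSolvable_of_isCyclic isCyclic_of_subsingleton))
  rw [Subgroup.card_top]
  exact ((Nat.Prime.coprime_iff_not_dvd Fact.out).mpr h).symm

/-- Elements of order `p` lift along a map with kernel of order prime to `p`. -/
theorem exists_lift_orderOf {G Q : Type*} [Group G] [Finite G] [Group Q] {f : G →* Q}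
    (hf : Function.Surjective f) (hk : (Nat.card f.ker).Coprime p) {z : Q} (hz : orderOf z = p) :
    ∃ x : G, orderOf x = p ∧ f x = z := by
  have hp : p.Prime := Fact.out
  obtain ⟨x, rfl⟩ := hf z
  have hker : x ^ p ∈ f.ker := by
    rw [MonoidHom.mem_ker, map_pow, ← hz, pow_orderOf_eq_one]
  have hcop : (orderOf (x ^ p)).Coprime p :=
    Nat.Coprime.coprime_dvd_left (f.ker.orderOf_dvd_natCard hker) hk
  obtain ⟨c, hc⟩ := Nat.exists_mul_mod_eq_one_of_coprime hcop hp.one_lt
  set m := orderOf (x ^ p) with hm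
  have himg : f (x ^ (m * c)) = f x := by
    rw [map_pow]
    conv_rhs => rw [← pow_one (f x)]
    rw [pow_eq_pow_iff_modEq, hz]
    rw [Nat.ModEq, hc.2, Nat.one_mod_eq_one.mpr hp.ne_one]
  refine ⟨x ^ (m * c), orderOf_eq_prime ?_ fun h1 => ?_, himg⟩
  · rw [← pow_mul, show m * c * p = p * m * c by ring, pow_mul, pow_mul, hm, pow_orderOf_eq_one,
      one_pow]
  · rw [h1, map_one] at himg
    rw [← himg, orderOf_one] at hz
    exact hp.one_lt.ne hz

/-- Two generators of order `p` of a `p`-solvable group with cyclic Sylow subgroups: one is a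
power of the other modulo `O_{p'}`. -/
theorem exists_pow_mem_core {H : Type*} [Group H] [Finite H] (hsol : IsPSolvable p H)
    (hcyc : ∀ S : Sylow p H, IsCyclic ↥(S : Subgroup H)) {x y : H} (hx : orderOf x = p)
    (hy : orderOf y = p) (hgen : Subgroup.closure ({x, y} : Set H) = ⊤) :
    ∃ j : ℕ, ∀ i : ℕ, y ^ i * ((x ^ i) ^ j)⁻¹ ∈ pPrimeCore p H := by
  have hp : p.Prime := Fact.out
  haveI := Transfer.pPrimeCore_normal p H
  have hab : ∀ S : Sylow p H, ∀ a ∈ (S : Subgroup H), ∀ b ∈ (S : Subgroup H), a * b = b * a := by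
    intro S a ha b hb
    haveI := hcyc S
    haveI : IsMulCommutative (S : Subgroup H) := inferInstance
    exact congrArg Subtype.val (mul_comm' (⟨a, ha⟩ : (S : Subgroup H)) ⟨b, hb⟩)
  have hQ := PairPSolvable.quotient_isPGroup hsol hab (hx ▸ pow_orderOf_eq_one x)
    (hy ▸ pow_orderOf_eq_one y) hgen
  set f := QuotientGroup.mk' (pPrimeCore p H) with hfdef
  have hsurj : Function.Surjective f := QuotientGroup.mk'_surjective _
  obtain ⟨T⟩ := (inferInstance : Nonempty (Sylow p (H ⧸ pPrimeCore p H)))
  have htop : (T : Subgroup (H ⧸ pPrimeCore p H)) = ⊤ :=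
    (T.3 (hQ.to_subgroup ⊤) le_top).symm
  have hTc : IsCyclic ↥(T : Subgroup (H ⧸ pPrimeCore p H)) := by
    obtain ⟨S, rfl⟩ := Sylow.mapSurjective_surjective hsurj p T
    haveI := hcyc S
    rw [Sylow.coe_mapSurjective]
    exact isCyclic_of_surjective (f.subgroupMap (S : Subgroup H))
      (f.subgroupMap_surjective (S : Subgroup H))
  have hxp : x ^ p = 1 := hx ▸ pow_orderOf_eq_one x
  have hyp : y ^ p = 1 := hy ▸ pow_orderOf_eq_one y
  have hfx : orderOf (f x) = p := by
    refine orderOf_eq_prime (by rw [← map_pow, hxp, map_one]) fun h1 => ?_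
    rw [hfdef, QuotientGroup.mk'_apply, QuotientGroup.eq_one_iff] at h1
    have := Transfer.coprime_orderOf_of_mem (Transfer.pPrimeCore_coprime p) h1
    rw [hx, hp.coprime_iff_not_dvd] at this
    exact this dvd_rfl
  have hfy : f y ∈ Subgroup.zpowers (f x) :=
    mem_zpowers_of_orderOf T hTc (htop ▸ Subgroup.mem_top _) hfx (htop ▸ Subgroup.mem_top _)
      (by rw [← map_pow, hyp, map_one])
  obtain ⟨j, hj⟩ := (isOfFinOrder_of_finite (f x)).mem_powers_iff_mem_zpowers.mpr hfy
  refine ⟨j, fun i => ?_⟩
  rw [← QuotientGroup.eq_one_iff]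
  show f (y ^ i * ((x ^ i) ^ j)⁻¹) = 1
  simp only at hj
  rw [map_mul, map_inv, map_pow, map_pow, map_pow, ← hj, ← pow_mul, ← pow_mul, mul_comm j,
    mul_inv_cancel]

/-- The simple case. -/
theorem false_of_simple {G : Type u} [Group G] [Finite G] [IsSimpleGroup G]
    (hns : ¬ Group.IsSolvable G) (hdvd : p ∣ Nat.card G)
    (hcyc : ∀ T : Sylow p G, IsCyclic ↥(T : Subgroup G))
    (hpairs : ∀ x y : G, orderOf x = p → orderOf y = p →
      IsPSolvable p ↥(Subgroup.closure ({x, y} : Set G))) : False := by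
  classical
  haveI := Fintype.ofFinite G
  have hp : p.Prime := Fact.out
  obtain ⟨P⟩ := (inferInstance : Nonempty (Sylow p G))
  haveI := Fintype.ofFinite (P : Subgroup G)
  have hPne := Sylow.ne_bot_of_dvd_card P hdvd
  have hpP : p ∣ Nat.card (P : Subgroup G) := by
    rw [P.card_eq_multiplicity]
    exact dvd_pow_self p (hp.factorization_pos_of_dvd Nat.card_pos.ne' hdvd).ne'
  obtain ⟨x', hx'⟩ := exists_prime_orderOf_dvd_card' (G := (P : Subgroup G)) p hpP
  have hxP := x'.2
  have hx : orderOf (x' : G) = p := (Subgroup.orderOf_coe x').trans hx'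
  set x : G := (x' : G)
  have hx1 : x ≠ 1 := fun h1 => by
    rw [h1, orderOf_one] at hx
    exact hp.one_lt.ne hx
  by_cases hfix : ∀ n ∈ Subgroup.normalizer ((P : Subgroup G) : Set G), n * x * n⁻¹ = x
  · obtain ⟨S, N, hN, hcompl⟩ := hasNormalPComplement_of_central P (hcyc P) hxP hx hfix
    rcases hN.eq_bot_or_eq_top with h | h
    · rw [h, Subgroup.isComplement'_bot_left] at hcompl
      refine hns ?_
      haveI := hcyc S
      have hcS : IsCyclic ↥(S : Subgroup G) := hcyc S
      rw [hcompl] at hcS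
      exact isSolvable_of_isCyclic (isCyclic_of_surjective (Subgroup.topEquiv (G := G)).toMonoidHom
        (MulEquiv.surjective _))
    · rw [h, Subgroup.isComplement'_top_left] at hcompl
      exact Sylow.ne_bot_of_dvd_card S hdvd hcompl
  push Not at hfix
  obtain ⟨n, hn, hnx⟩ := hfix
  have hnz : n * x * n⁻¹ ∈ Subgroup.zpowers x := by
    refine mem_zpowers_of_orderOf P (hcyc P) hxP hx ((Subgroup.mem_normalizer_iff.mp hn x).mp hxP) ?_
    rw [conj_pow, ← hx, pow_orderOf_eq_one, mul_one, mul_inv_cancel]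
  have hp2 : p ≠ 2 := by
    rintro rfl
    obtain ⟨i, hi⟩ := Subgroup.mem_zpowers_iff.mp hnz
    rw [← zpow_mod_orderOf, hx] at hi
    rcases Int.emod_two_eq_zero_or_one i with h | h
    · rw [show ((2 : ℕ) : ℤ) = 2 from rfl, h, zpow_zero] at hi
      exact hx1 (conj_eq_one_iff.mp hi.symm)
    · rw [show ((2 : ℕ) : ℤ) = 2 from rfl, h, zpow_one] at hi
      exact hnx hi.symm
  refine no_configuration P (hcyc P) hp2 hxP hx ?_ ⟨n, hnz, hnx⟩ ?_ ?_
  · intro χ hχ1 hχx
    obtain ⟨K, hKn, hK, -⟩ := exists_kernel (isCharacter_of_isIrr χ.2)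
    have hKtop : K = ⊤ := hKn.eq_bot_or_eq_top.resolve_left fun h => hx1 (by
      have := (hK x).mpr hχx
      rwa [h, Subgroup.mem_bot] at this)
    have hconst : ∀ g, (χ : G → ℂ) g = (χ : G → ℂ) 1 := fun g =>
      (hK g).mp (hKtop ▸ Subgroup.mem_top g)
    obtain ⟨d, hd0, hd⟩ := exists_nat_degree_irr χ.2
    have h1 := classInner_irr_self χ.2
    simp only [classInner, hconst, hd, Complex.conj_natCast, Finset.sum_const, Finset.card_univ,
      nsmul_eq_mul, ← Nat.card_eq_fintype_card] at h1
    rw [inv_mul_cancel_left₀ (Nat.cast_ne_zero.mpr Nat.card_pos.ne')] at h1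
    have hd1 : d = 1 := by
      have : d * d = 1 := by exact_mod_cast h1
      exact Nat.eq_one_of_mul_eq_one_left this
    refine hχ1 (funext fun g => ?_)
    rw [hconst, hd, hd1, Nat.cast_one]
  · intro a ha ha1
    have haP : a ∈ (P : Subgroup G) := Subgroup.zpowers_le.mpr hxP ha
    have hPC : (P : Subgroup G) ≤ Subgroup.centralizer ({a} : Set G) := fun y hy => by
      haveI := hcyc P
      haveI : IsMulCommutative (P : Subgroup G) := inferInstance
      exact Subgroup.mem_centralizer_singleton_iff.mpr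
        (congrArg Subtype.val (mul_comm' (⟨y, hy⟩ : (P : Subgroup G)) ⟨a, haP⟩))
    have hao : orderOf a = p := by
      have h1 : orderOf a ∣ p := hx ▸ orderOf_dvd_of_mem_zpowers ha
      rcases (Nat.dvd_prime hp).mp h1 with h | h
      · exact absurd (orderOf_eq_one_iff.mp h) ha1
      · exact h
    refine hasNormalPComplement_of_central (P.subtype hPC)
      (isCyclic_sylow_subgroup hcyc _ _) (x := ⟨a, hPC haP⟩) (Subgroup.mem_subgroupOf.mpr haP)
      ((Subgroup.orderOf_mk a _).trans hao) fun m _ => Subtype.ext ?_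
    show (m : G) * a * (m : G)⁻¹ = a
    rw [Subgroup.mem_centralizer_singleton_iff.mp m.2, mul_inv_cancel_right]
  · intro g
    set y := g * x * g⁻¹ with hy
    have hyo : orderOf y = p := (Transfer.orderOf_conj g x).trans hx
    set K := Subgroup.closure ({x, y} : Set G) with hK
    have hxK : x ∈ K := Subgroup.subset_closure (Set.mem_insert _ _)
    have hyK : y ∈ K := Subgroup.subset_closure (Set.mem_insert_of_mem _ rfl)
    set xK : K := ⟨x, hxK⟩
    set yK : K := ⟨y, hyK⟩
    have hgen : Subgroup.closure ({xK, yK} : Set K) = ⊤ := by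
      have hpre : ((↑) : K → G) ⁻¹' {x, y} = {xK, yK} := by
        ext z
        simp [Subtype.ext_iff, xK, yK]
      rw [← hpre]
      exact Subgroup.closure_closure_coe_preimage
    obtain ⟨j, hj⟩ := exists_pow_mem_core (hpairs x y hx hyo) (isCyclic_sylow_subgroup hcyc K)
      (x := xK) (y := yK) ((Subgroup.orderOf_mk x hxK).trans hx)
      ((Subgroup.orderOf_mk y hyK).trans hyo) hgen
    haveI := Transfer.pPrimeCore_normal p K
    refine ⟨j, (pPrimeCore p K).map K.subtype, ?_, ?_, ?_⟩
    · rw [Subgroup.card_map_of_injective K.subtype_injective]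
      exact Transfer.not_dvd_card_pPrimeCore
    · refine Subgroup.le_normalizer_map K.subtype ⟨xK, ?_, rfl⟩
      rw [Subgroup.normalizer_eq_top]
      exact Subgroup.mem_top _
    · intro z hz
      obtain ⟨i, rfl⟩ := (isOfFinOrder_of_finite x).mem_powers_iff_mem_zpowers.mpr hz
      refine ⟨_, hj i, ?_⟩
      simp only [map_mul, map_inv, map_pow, Subgroup.coe_subtype, xK, yK, hy, conj_pow]

/-- The reduction. -/
theorem isPSolvable_of_pairs : ∀ (n : ℕ) {G : Type u} [Group G] [Finite G], Nat.card G = n →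
    (∀ T : Sylow p G, IsCyclic ↥(T : Subgroup G)) →
    (∀ x y : G, orderOf x = p → orderOf y = p →
      IsPSolvable p ↥(Subgroup.closure ({x, y} : Set G))) → IsPSolvable p G := by
  intro n
  induction n using Nat.strong_induction_on with
  | _ n IH =>
  intro G _ _ hn hcyc hpairs
  have hp : p.Prime := Fact.out
  by_cases hdvd : p ∣ Nat.card G
  swap
  · exact isPSolvable_of_not_dvd hdvd
  by_cases hex : ∃ N : Subgroup G, N.Normal ∧ N ≠ ⊥ ∧ N ≠ ⊤
  · obtain ⟨N, hNn, hNb, hNt⟩ := hex
    haveI := hNn
    haveI := Transfer.pPrimeCore_normal p G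
    by_cases hO : pPrimeCore p G = ⊥
    swap
    · set f := QuotientGroup.mk' (pPrimeCore p G) with hf
      have hsurj : Function.Surjective f := QuotientGroup.mk'_surjective _
      have hker : (Nat.card f.ker).Coprime p := by
        rw [hf, QuotientGroup.ker_mk']
        exact Transfer.pPrimeCore_coprime p
      refine PSolvable.isPSolvable_of_quotient _ (Or.inr (Transfer.pPrimeCore_coprime p))
        (IH _ ?_ rfl (fun T => ?_) fun a b ha hb => ?_)
      · rw [← hn, Subgroup.card_eq_card_quotient_mul_card_subgroup (pPrimeCore p G)]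
        exact lt_mul_of_one_lt_right Nat.card_pos ((Subgroup.one_lt_card_iff_ne_bot _).mpr hO)
      · obtain ⟨S, rfl⟩ := Sylow.mapSurjective_surjective hsurj p T
        haveI := hcyc S
        rw [Sylow.coe_mapSurjective]
        exact isCyclic_of_surjective (f.subgroupMap (S : Subgroup G))
          (f.subgroupMap_surjective (S : Subgroup G))
      · obtain ⟨a', ha', rfl⟩ := exists_lift_orderOf hsurj hker ha
        obtain ⟨b', hb', rfl⟩ := exists_lift_orderOf hsurj hker hb
        rw [← Set.image_pair, ← MonoidHom.map_closure]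
        exact PSolvable.isPSolvable_of_surjective _ (f.subgroupMap_surjective _)
          (hpairs a' b' ha' hb')
    have hNsol : IsPSolvable p N := by
      refine IH _ ?_ rfl (isCyclic_sylow_subgroup hcyc N) fun a b ha hb => ?_
      · rw [← hn]
        exact lt_of_le_of_ne (Subgroup.card_le_card_group N) fun h => hNt (Subgroup.eq_top_of_card_eq N h)
      · exact pair_of_injective N.subtype N.subtype_injective a b
          (hpairs a b ((Subgroup.orderOf_coe a).trans ha) ((Subgroup.orderOf_coe b).trans hb))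
    have hON : pPrimeCore p N = ⊥ := by
      have h := PSolvable.map_pPrimeCore_le (p := p) N
      rw [hO, le_bot_iff] at h
      exact (Subgroup.map_eq_bot_iff_of_injective _ N.subtype_injective).mp h
    have hR : pCore p G ≠ ⊥ := by
      intro h
      have h1 := PSolvable.map_pCore_le (p := p) N
      rw [h, le_bot_iff, Subgroup.map_eq_bot_iff_of_injective _ N.subtype_injective] at h1
      have h2 := PSolvable.centralizer_pCore_le hNsol hON
      rw [h1, le_bot_iff] at h2
      have h3 : Subgroup.centralizer ((⊥ : Subgroup N) : Set N) = ⊤ := by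
        rw [eq_top_iff]
        intro z _
        rw [Subgroup.mem_centralizer_iff]
        rintro w hw
        rw [Subgroup.mem_bot.mp hw, one_mul, mul_one]
      rw [h3] at h2
      haveI : Nontrivial N := (Subgroup.nontrivial_iff_ne_bot N).mpr hNb
      exact top_ne_bot h2
    haveI : (pCore p G).Normal := Fitting.pCore_normal p
    have hRp : IsPGroup p (pCore p G) := Fitting.pCore_isPGroup p
    obtain ⟨x', hx'⟩ : ∃ x : pCore p G, orderOf x = p := by
      haveI : Nontrivial (pCore p G) := (Subgroup.nontrivial_iff_ne_bot _).mpr hR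
      obtain ⟨k, hk0, hk⟩ := hRp.nontrivial_iff_card.mp inferInstance
      exact exists_prime_orderOf_dvd_card' p (hk ▸ dvd_pow_self p hk0.ne')
    set x : G := (x' : G) with hxdef
    have hxo : orderOf x = p := (Subgroup.orderOf_coe x').trans hx'
    obtain ⟨P⟩ := (inferInstance : Nonempty (Sylow p G))
    have hRP : pCore p G ≤ (P : Subgroup G) := hRp.le_sylow_of_normal P
    haveI hZn : (Subgroup.zpowers x).Normal := by
      refine ⟨fun z hz g => ?_⟩
      have hzR : z ∈ pCore p G := Subgroup.zpowers_le.mpr x'.2 hz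
      refine mem_zpowers_of_orderOf P (hcyc P) (hRP x'.2) hxo
        (hRP (Subgroup.Normal.conj_mem inferInstance z hzR g)) ?_
      obtain ⟨i, rfl⟩ := Subgroup.mem_zpowers_iff.mp hz
      rw [conj_pow, ← zpow_natCast, ← zpow_mul, mul_comm, zpow_mul, zpow_natCast, ← hxo,
        pow_orderOf_eq_one, one_zpow, mul_one, mul_inv_cancel]
    set C := Subgroup.centralizer ((Subgroup.zpowers x : Subgroup G) : Set G) with hC
    haveI : C.Normal := Subgroup.normal_centralizer
    have hxC : x ∈ C := Subgroup.mem_centralizer_iff.mpr fun z hz => by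
      obtain ⟨i, rfl⟩ := Subgroup.mem_zpowers_iff.mp hz
      exact ((Commute.refl x).zpow_left i).eq
    obtain ⟨S⟩ := (inferInstance : Nonempty (Sylow p C))
    have hnorm : (Subgroup.zpowers (⟨x, hxC⟩ : C)).Normal := by
      refine ⟨fun z hz g => ?_⟩
      obtain ⟨i, rfl⟩ := Subgroup.mem_zpowers_iff.mp hz
      have hc : Commute g (⟨x, hxC⟩ : C) := Subtype.ext
        (Subgroup.mem_centralizer_iff.mp g.2 x (Subgroup.mem_zpowers x)).symm
      rw [(hc.zpow_right i).eq, mul_inv_cancel_right]
      exact hz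
    have hxS : (⟨x, hxC⟩ : C) ∈ (S : Subgroup C) :=
      (IsPGroup.of_card (n := 1) (by rw [Nat.card_zpowers, Subgroup.orderOf_mk, hxo, pow_one]) :
        IsPGroup p (Subgroup.zpowers (⟨x, hxC⟩ : C))).le_sylow_of_normal S
        (Subgroup.mem_zpowers _)
    obtain ⟨S', M, hMn, hM⟩ := hasNormalPComplement_of_central S
      (isCyclic_sylow_subgroup hcyc C S) hxS ((Subgroup.orderOf_mk x hxC).trans hxo)
      (fun m _ => Subtype.ext (by
        show (m : G) * x * (m : G)⁻¹ = x
        rw [← Subgroup.mem_centralizer_iff.mp m.2 x (Subgroup.mem_zpowers x), mul_inv_cancel_right]))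
    have hMb : M = ⊥ := by
      have h := Transfer.le_pPrimeCore hMn (Transfer.coprime_card_of_isComplement' hM)
      have h1 := PSolvable.map_pPrimeCore_le (p := p) C
      rw [hO, le_bot_iff, Subgroup.map_eq_bot_iff_of_injective _ C.subtype_injective] at h1
      rwa [h1, le_bot_iff] at h
    rw [hMb, Subgroup.isComplement'_bot_left] at hM
    have hCc : IsCyclic ↥(⊤ : Subgroup C) := hM ▸ isCyclic_sylow_subgroup hcyc C S'
    haveI : Group.IsSolvable C := isSolvable_of_isCyclic
      (isCyclic_of_surjective (Subgroup.topEquiv (G := C)).toMonoidHom (MulEquiv.surjective _))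
    let φ : G →* (ZMod (Nat.card (Subgroup.zpowers x)))ˣ :=
      (IsCyclic.mulAutMulEquiv (Subgroup.zpowers x)).toMonoidHom.comp MulAut.conjNormal
    refine PSolvable.isPSolvable_of_isSolvable
      (solvable_of_ker_le_range C.subtype φ fun g hg => ?_)
    rw [MonoidHom.mem_ker] at hg
    simp only [φ, MonoidHom.comp_apply, MulEquiv.coe_toMonoidHom, MulEquiv.map_eq_one_iff] at hg
    rw [Subgroup.range_subtype, hC, Subgroup.mem_centralizer_iff]
    intro z hz
    have h1 := congrArg Subtype.val (DFunLike.congr_fun hg ⟨z, hz⟩)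
    rw [MulAut.conjNormal_apply, MulAut.one_apply] at h1
    exact (mul_inv_eq_iff_eq_mul.mp h1).symm
  · push Not at hex
    haveI : Nontrivial G := Finite.one_lt_card_iff_nontrivial.mp
      (lt_of_lt_of_le hp.one_lt (Nat.le_of_dvd Nat.card_pos hdvd))
    haveI : IsSimpleGroup G := ⟨fun N hN => or_iff_not_imp_left.mpr (hex N hN)⟩
    by_cases hsol : Group.IsSolvable G
    · exact PSolvable.isPSolvable_of_isSolvable hsol
    · exact (false_of_simple hsol hdvd hcyc hpairs).elim

end CfsgLib.CyclicPairs
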